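import Cfsg.Agent.McLaughlin.Generation
import Cfsg.Prelude


/-!
# A connected family of transvections with trivial `p`-core
-/

set_option autoImplicit false

namespace CfsgLib.McL

open Module

variable {p : ℕ} [Fact p.Prime] {V : Type*} [AddCommGroup V] [Module (ZMod p) V]

/-- Hypotheses on a component. -/
structure Block (K : Subgroup (V ≃ₗ[ZMod p] V)) : Prop where
  three : 3 ≤ p
  gen : K ≤ Subgroup.closure {g | ∃ (a : V) (φ : Dual (ZMod p) V) (h : φ a = 0), g = LinearEquiv.transvection h ∧ g ∈ K}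
  exists_pair : ∃ a φ, Has K a φ ∧ a ≠ 0 ∧ φ ≠ 0
  conn : ∀ S : V → Dual (ZMod p) V → Prop, (∃ a φ, Has K a φ ∧ a ≠ 0 ∧ φ ≠ 0 ∧ S a φ) →
    (∀ a φ b ψ, Has K a φ → a ≠ 0 → φ ≠ 0 → S a φ → Has K b ψ → b ≠ 0 → ψ ≠ 0 →
      (φ b ≠ 0 ∨ ψ a ≠ 0) → S b ψ) →
    ∀ a φ, Has K a φ → a ≠ 0 → φ ≠ 0 → S a φ
  core : Cfsg.pCore p ↥K = ⊥

variable {K : Subgroup (V ≃ₗ[ZMod p] V)}

/-- The span of the centres. -/
def centres (K : Subgroup (V ≃ₗ[ZMod p] V)) : Submodule (ZMod p) V :=
  Submodule.span (ZMod p) {a | ∃ φ, Has K a φ ∧ φ ≠ 0}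

/-- The common kernel of the axes. -/
def axker (K : Subgroup (V ≃ₗ[ZMod p] V)) : Submodule (ZMod p) V where
  carrier := {x | ∀ a φ, Has K a φ → a ≠ 0 → φ x = 0}
  zero_mem' := fun _ φ _ _ => map_zero φ
  add_mem' hx hy := fun a φ h h0 => by rw [map_add, hx a φ h h0, hy a φ h h0, add_zero]
  smul_mem' c _ hx := fun a φ h h0 => by rw [map_smul, hx a φ h h0, smul_zero]

lemma mem_centres {a : V} {φ : Dual (ZMod p) V} (h : Has K a φ) (h0 : φ ≠ 0) : a ∈ centres K :=
  Submodule.subset_span ⟨φ, h, h0⟩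

lemma smul_mem_centres {a : V} {φ : Dual (ZMod p) V} (h : Has K a φ) (x : V) :
    φ x • a ∈ centres K := by
  rcases eq_or_ne φ 0 with rfl | h0
  · simp
  · exact Submodule.smul_mem _ _ (mem_centres h h0)

lemma smul_eq_zero_of_axker {a x : V} {φ : Dual (ZMod p) V} (h : Has K a φ) (hx : x ∈ axker K) :
    φ x • a = 0 := by
  rcases eq_or_ne a 0 with rfl | h0
  · simp
  · rw [hx a φ h h0, zero_smul]

lemma sub_mem_centres (hB : Block K) {g : V ≃ₗ[ZMod p] V} (hg : g ∈ K) (x : V) :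
    g x - x ∈ centres K := by
  suffices ∀ x, g x - x ∈ centres K from this x
  have hg' := hB.gen hg
  clear hg
  induction hg' using Subgroup.closure_induction with
  | mem y hy =>
    intro x
    obtain ⟨a, φ, h, rfl, hy⟩ := hy
    rw [tv_apply, add_sub_cancel_left]
    exact smul_mem_centres ⟨h, hy⟩ x
  | one => intro x; simp
  | mul a b _ _ iha ihb =>
    intro x
    have := Submodule.add_mem _ (iha (b x)) (ihb x)
    rwa [sub_add_sub_cancel] at this
  | inv a _ iha =>
    intro x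
    have := Submodule.neg_mem _ (iha (a.symm x))
    rwa [a.apply_symm_apply, neg_sub] at this

lemma fix_axker (hB : Block K) {g : V ≃ₗ[ZMod p] V} (hg : g ∈ K) {x : V} (hx : x ∈ axker K) :
    g x = x := by
  have hg' := hB.gen hg
  clear hg
  induction hg' using Subgroup.closure_induction with
  | mem y hy =>
    obtain ⟨a, φ, h, rfl, hy⟩ := hy
    rw [tv_apply, smul_eq_zero_of_axker ⟨h, hy⟩ hx, add_zero]
  | one => simp
  | mul a b _ _ iha ihb => rw [LinearEquiv.mul_apply, ihb, iha]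
  | inv a _ iha =>
    change a.symm x = x
    exact a.symm_apply_eq.2 iha.symm

lemma apply_mem (hB : Block K) {g : V ≃ₗ[ZMod p] V} (hg : g ∈ K) {x : V} (hx : x ∈ centres K) :
    g x ∈ centres K := by
  simpa using Submodule.add_mem _ (sub_mem_centres hB hg x) hx

lemma preserves_of_cond (hB : Block K) {X : Submodule (ZMod p) V}
    (hX : ∀ a φ, Has K a φ → a ≠ 0 → φ ≠ 0 → a ∈ X ∨ ∀ x ∈ X, φ x = 0)
    {g : V ≃ₗ[ZMod p] V} (hg : g ∈ K) : ∀ x ∈ X, g x ∈ X ∧ g.symm x ∈ X := by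
  have hg' := hB.gen hg
  clear hg
  induction hg' using Subgroup.closure_induction with
  | mem y hy =>
    intro x hx
    obtain ⟨a, φ, h, rfl, hy⟩ := hy
    have key : φ x • a ∈ X := by
      rcases eq_or_ne a 0 with rfl | ha
      · simp
      rcases eq_or_ne φ 0 with rfl | hφ
      · simp
      rcases hX a φ ⟨h, hy⟩ ha hφ with h' | h'
      · exact X.smul_mem _ h'
      · rw [h' x hx, zero_smul]; exact X.zero_mem
    refine ⟨by rw [tv_apply]; exact X.add_mem hx key, ?_⟩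
    change (LinearEquiv.transvection h)⁻¹ x ∈ X
    rw [tv_inv_apply]; exact X.sub_mem hx key
  | one => intro x hx; exact ⟨hx, hx⟩
  | mul a b _ _ iha ihb =>
    intro x hx
    exact ⟨(iha _ (ihb x hx).1).1, (ihb _ (iha x hx).2).2⟩
  | inv a _ iha => intro x hx; exact ⟨(iha x hx).2, (iha x hx).1⟩

lemma pow_apply_linear {g : V ≃ₗ[ZMod p] V} (hg : ∀ x, g (g x - x) = g x - x) (n : ℕ) (x : V) :
    (g ^ n) x = x + (n : ZMod p) • (g x - x) := by
  induction n with
  | zero => simp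
  | succ n ih =>
    rw [pow_succ', LinearEquiv.mul_apply, ih, map_add, map_smul, hg, Nat.cast_succ, add_smul, one_smul]
    abel

lemma pow_apply_quadratic {g : V ≃ₗ[ZMod p] V}
    (hg : ∀ x, g (g (g x - x) - (g x - x)) = g (g x - x) - (g x - x)) (n : ℕ) (x : V) :
    (g ^ n) x = x + (n : ZMod p) • (g x - x) +
      ((n.choose 2 : ℕ) : ZMod p) • (g (g x - x) - (g x - x)) := by
  induction n with
  | zero => simp
  | succ n ih =>
    rw [pow_succ', LinearEquiv.mul_apply, ih, map_add, map_add, map_smul, map_smul, hg, Nat.cast_succ,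
      Nat.choose_succ_succ' n 1, Nat.choose_one_right, Nat.cast_add]
    rw [show g (g x - x) = (g x - x) + (g (g x - x) - (g x - x)) by abel]
    module

lemma isPGroup_of_pow_eq_one {H : Type*} [Group H] (N : Subgroup H) (h : ∀ g ∈ N, g ^ p = 1) :
    IsPGroup p N := fun g => ⟨1, by rw [pow_one]; exact Subtype.ext (h g g.2)⟩

lemma eq_one_of_normal (hB : Block K) (N : Subgroup ↥K) (hN : N.Normal) (h : ∀ g ∈ N, g ^ p = 1)
    {g : ↥K} (hg : g ∈ N) : g = 1 := by
  have hle : N ≤ Cfsg.pCore p ↥K := le_sSup ⟨hN, isPGroup_of_pow_eq_one N h⟩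
  rw [hB.core] at hle
  exact Subgroup.mem_bot.1 (hle hg)

/-- The elements of `K` acting trivially on `X` and on `V / X` form the trivial group. -/
lemma no_inner_pair (hB : Block K) {X : Submodule (ZMod p) V}
    (hX : ∀ a φ, Has K a φ → a ≠ 0 → φ ≠ 0 → a ∈ X ∨ ∀ x ∈ X, φ x = 0)
    {a : V} {φ : Dual (ZMod p) V} (h : Has K a φ) (ha : a ≠ 0) (hφ : φ ≠ 0) (haX : a ∈ X) :
    ∃ x ∈ X, φ x ≠ 0 := by
  by_contra hc
  push Not at hc
  let N : Subgroup ↥K :=
    { carrier := {g | (∀ x, (g : V ≃ₗ[ZMod p] V) x - x ∈ X) ∧ ∀ x ∈ X, (g : V ≃ₗ[ZMod p] V) x = x}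
      one_mem' := ⟨fun x => by simp, fun x _ => rfl⟩
      mul_mem' := fun {g k} hg hk => ⟨fun x => by
          have := X.add_mem (hg.1 ((k : V ≃ₗ[ZMod p] V) x)) (hk.1 x)
          rwa [sub_add_sub_cancel] at this,
        fun x hx => by
          change (g : V ≃ₗ[ZMod p] V) ((k : V ≃ₗ[ZMod p] V) x) = x
          rw [hk.2 x hx, hg.2 x hx]⟩
      inv_mem' := fun {g} hg => ⟨fun x => by
          have := X.neg_mem (hg.1 ((g : V ≃ₗ[ZMod p] V).symm x))
          rwa [LinearEquiv.apply_symm_apply, neg_sub] at this,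
        fun x hx => (g : V ≃ₗ[ZMod p] V).symm_apply_eq.2 (hg.2 x hx).symm⟩ }
  have hN : N.Normal := ⟨fun g hg k => ⟨fun x => by
      have e : ((k * g * k⁻¹ : ↥K) : V ≃ₗ[ZMod p] V) x - x =
          (k : V ≃ₗ[ZMod p] V) ((g : V ≃ₗ[ZMod p] V) ((k : V ≃ₗ[ZMod p] V).symm x) -
            (k : V ≃ₗ[ZMod p] V).symm x) := by
        rw [map_sub, LinearEquiv.apply_symm_apply]; rfl
      rw [e]
      exact (preserves_of_cond hB hX k.2 _ (hg.1 _)).1,
    fun x hx => by
      change (k : V ≃ₗ[ZMod p] V) ((g : V ≃ₗ[ZMod p] V) ((k : V ≃ₗ[ZMod p] V).symm x)) = x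
      rw [hg.2 _ (preserves_of_cond hB hX k.2 x hx).2, LinearEquiv.apply_symm_apply]⟩⟩
  have hpow : ∀ g ∈ N, g ^ p = 1 := fun g hg => Subtype.ext (LinearEquiv.ext fun x => by
    rw [SubgroupClass.coe_pow, pow_apply_linear (fun y => hg.2 _ (hg.1 y)) p x, ZMod.natCast_self,
      zero_smul, add_zero]
    rfl)
  have := eq_one_of_normal hB N hN hpow (g := ⟨_, h.2⟩)
    ⟨fun x => by
      change LinearEquiv.transvection h.1 x - x ∈ X
      rw [tv_apply, add_sub_cancel_left]; exact X.smul_mem _ haX,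
    fun x hx => by
      change LinearEquiv.transvection h.1 x = x
      rw [tv_apply, hc x hx, zero_smul, add_zero]⟩
  exact ((tv_eq_one_iff h.1).1 (congrArg Subtype.val this)).elim ha hφ

/-- The only invariant subspaces of the span of the centres are killed by all axes. -/
lemma le_or_le (hB : Block K) {X : Submodule (ZMod p) V}
    (hX : ∀ a φ, Has K a φ → a ≠ 0 → φ ≠ 0 → a ∈ X ∨ ∀ x ∈ X, φ x = 0) :
    centres K ≤ X ∨ X ≤ axker K := by
  obtain ⟨a, φ, h, ha, hφ⟩ := hB.exists_pair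
  by_cases haX : a ∈ X
  · left
    have := hB.conn (fun b _ => b ∈ X) ⟨a, φ, h, ha, hφ, haX⟩ fun a φ b ψ h ha hφ haX h' hb hψ hadj => by
      by_contra hbX
      have hψX := (hX b ψ h' hb hψ).resolve_left hbX
      have hφb : φ b ≠ 0 := hadj.resolve_right (not_not.2 (hψX a haX))
      obtain ⟨x, hx, hx0⟩ := no_inner_pair hB hX (h.comm h' hφb (hψX a haX)) ha hψ haX
      exact hx0 (hψX x hx)
    refine Submodule.span_le.2 ?_
    rintro b ⟨ψ, h', hψ⟩
    rcases eq_or_ne b 0 with rfl | hb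
    · exact X.zero_mem
    · exact this b ψ h' hb hψ
  · right
    have := hB.conn (fun b _ => b ∉ X) ⟨a, φ, h, ha, hφ, haX⟩ fun a φ b ψ h ha hφ haX h' hb hψ hadj => by
      intro hbX
      have hφX := (hX a φ h ha hφ).resolve_left haX
      have hψa : ψ a ≠ 0 := hadj.resolve_left (not_not.2 (hφX b hbX))
      obtain ⟨x, hx, hx0⟩ := no_inner_pair hB hX (h'.comm h hψa (hφX b hbX)) hb hφ hbX
      exact hx0 (hφX x hx)
    intro x hx b ψ h' hb
    rcases eq_or_ne ψ 0 with rfl | hψ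
    · rfl
    · exact (hX b ψ h' hb hψ).resolve_left (this b ψ h' hb hψ) x hx

lemma centre_notMem_axker (hB : Block K) {a : V} {φ : Dual (ZMod p) V} (h : Has K a φ) (ha : a ≠ 0)
    (hφ : φ ≠ 0) : a ∉ centres K ⊓ axker K := by
  intro hm
  obtain ⟨x, hx, hx0⟩ := no_inner_pair hB (X := centres K ⊓ axker K)
    (fun b ψ h' hb hψ => Or.inr fun y hy => hy.2 b ψ h' hb) h ha hφ hm
  exact hx0 (hx.2 a φ h ha)

lemma exists_axis_ne_zero (hB : Block K) {a : V} {φ : Dual (ZMod p) V} (h : Has K a φ) (ha : a ≠ 0)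
    (hφ : φ ≠ 0) : ∃ x ∈ centres K, φ x ≠ 0 :=
  no_inner_pair hB (fun b ψ h' _ hψ => Or.inl (mem_centres h' hψ)) h ha hφ (mem_centres h hφ)

/-! ### The quotient module -/

/-- The centres modulo the part killed by all axes. -/
abbrev Core (K : Subgroup (V ≃ₗ[ZMod p] V)) :=
  ↥(centres K) ⧸ (axker K).comap (centres K).subtype

/-- The action of an element on the quotient, as a linear map. -/
def actMap (hB : Block K) (g : ↥K) : Core K →ₗ[ZMod p] Core K :=
  Submodule.mapQ _ _ ((g : V ≃ₗ[ZMod p] V).toLinearMap.restrict fun _ hx => apply_mem hB g.2 hx)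
    fun x hx => by
      change (g : V ≃ₗ[ZMod p] V) (x : V) ∈ axker K
      have hx' : (x : V) ∈ axker K := hx
      rw [fix_axker hB g.2 hx']
      exact hx'

lemma actMap_mk (hB : Block K) (g : ↥K) (x : ↥(centres K)) :
    actMap hB g (Submodule.Quotient.mk x) =
      Submodule.Quotient.mk ⟨(g : V ≃ₗ[ZMod p] V) x, apply_mem hB g.2 x.2⟩ := rfl

/-- The action on the quotient. -/
def act (hB : Block K) : ↥K →* (Core K ≃ₗ[ZMod p] Core K) where
  toFun g := LinearEquiv.ofLinear (actMap hB g) (actMap hB g⁻¹)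
    (LinearMap.ext fun q => by
      induction q using Submodule.Quotient.induction_on with
      | H x => exact congrArg Submodule.Quotient.mk (Subtype.ext ((g : V ≃ₗ[ZMod p] V).apply_symm_apply x)))
    (LinearMap.ext fun q => by
      induction q using Submodule.Quotient.induction_on with
      | H x => exact congrArg Submodule.Quotient.mk (Subtype.ext ((g : V ≃ₗ[ZMod p] V).symm_apply_apply x)))
  map_one' := LinearEquiv.ext fun q => by
    induction q using Submodule.Quotient.induction_on with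
    | H x => rfl
  map_mul' g k := LinearEquiv.ext fun q => by
    induction q using Submodule.Quotient.induction_on with
    | H x => rfl

lemma act_mk (hB : Block K) (g : ↥K) (x : ↥(centres K)) :
    act hB g (Submodule.Quotient.mk x) =
      Submodule.Quotient.mk ⟨(g : V ≃ₗ[ZMod p] V) x, apply_mem hB g.2 x.2⟩ := rfl

lemma act_injective (hB : Block K) : Function.Injective (act hB) := by
  refine (injective_iff_map_eq_one _).2 fun g hg => ?_
  refine eq_one_of_normal hB (act hB).ker inferInstance (fun k hk => ?_) (MonoidHom.mem_ker.2 hg)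
  have hU : ∀ u ∈ centres K, (k : V ≃ₗ[ZMod p] V) u - u ∈ axker K := by
    intro u hu
    have := LinearEquiv.congr_fun (MonoidHom.mem_ker.1 hk) (Submodule.Quotient.mk ⟨u, hu⟩)
    rw [act_mk, LinearEquiv.coe_one, id] at this
    exact Submodule.mem_comap.1 ((Submodule.Quotient.eq ((axker K).comap (centres K).subtype)).1 this)
  refine Subtype.ext (LinearEquiv.ext fun x => ?_)
  rw [SubgroupClass.coe_pow, pow_apply_quadratic (fun y => fix_axker hB k.2
    (hU _ (sub_mem_centres hB k.2 y))) p x, ZMod.natCast_self, zero_smul, add_zero]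
  have h2 : ((p.choose 2 : ℕ) : ZMod p) = 0 :=
    (ZMod.natCast_eq_zero_iff _ _).2 ((Fact.out : p.Prime).dvd_choose_self two_ne_zero
      (by have := hB.three; omega))
  rw [h2, zero_smul, add_zero]
  rfl

/-- The axis on the quotient. -/
def bar {a : V} {φ : Dual (ZMod p) V} (h : Has K a φ) (ha : a ≠ 0) : Dual (ZMod p) (Core K) :=
  Submodule.liftQ _ (φ ∘ₗ (centres K).subtype) fun _ hx => hx a φ h ha

lemma bar_mk {a : V} {φ : Dual (ZMod p) V} (h : Has K a φ) (ha : a ≠ 0) (x : ↥(centres K)) :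
    bar h ha (Submodule.Quotient.mk x) = φ x := rfl

/-- `(z, θ)` is the image of a transvection pair of `K`. -/
def Lift (K : Subgroup (V ≃ₗ[ZMod p] V)) (z : Core K) (θ : Dual (ZMod p) (Core K)) : Prop :=
  ∃ (a : V) (φ : Dual (ZMod p) V) (hU : a ∈ centres K), Has K a φ ∧ a ≠ 0 ∧ φ ≠ 0 ∧
    Submodule.Quotient.mk ⟨a, hU⟩ = z ∧ ∀ x : ↥(centres K), θ (Submodule.Quotient.mk x) = φ x

lemma Lift.ne_zero (hB : Block K) {z : Core K} {θ : Dual (ZMod p) (Core K)} (h : Lift K z θ) :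
    z ≠ 0 ∧ θ ≠ 0 := by
  obtain ⟨a, φ, hU, h, ha, hφ, rfl, hθ⟩ := h
  refine ⟨fun e => centre_notMem_axker hB h ha hφ ⟨hU, ((Submodule.Quotient.mk_eq_zero _).1 e : (⟨a, hU⟩ : ↥(centres K)) ∈ (axker K).comap (centres K).subtype)⟩, fun e => ?_⟩
  obtain ⟨x, hx, hx0⟩ := exists_axis_ne_zero hB h ha hφ
  exact hx0 (by rw [← hθ ⟨x, hx⟩, e]; rfl)

lemma Lift.act_eq (hB : Block K) {z : Core K} {θ : Dual (ZMod p) (Core K)} {a : V}
    {φ : Dual (ZMod p) V} (h : Has K a φ) (hU : a ∈ centres K)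
    (hz : Submodule.Quotient.mk ⟨a, hU⟩ = z)
    (hθ : ∀ x : ↥(centres K), θ (Submodule.Quotient.mk x) = φ x) :
    ∃ h' : θ z = 0, act hB ⟨_, h.2⟩ = LinearEquiv.transvection h' := by
  refine ⟨by rw [← hz, hθ]; exact h.1, LinearEquiv.ext fun q => ?_⟩
  induction q using Submodule.Quotient.induction_on with
  | H x =>
    subst hz
    refine ((act_mk hB _ x).trans ?_).trans (tv_apply _ _).symm
    rw [hθ x, ← Submodule.Quotient.mk_smul, ← Submodule.Quotient.mk_add]
    exact congrArg _ (Subtype.ext rfl)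

lemma Lift.has (hB : Block K) {z : Core K} {θ : Dual (ZMod p) (Core K)} (h : Lift K z θ) :
    Has (act hB).range z θ := by
  obtain ⟨a, φ, hU, h, _, _, hz, hθ⟩ := h
  obtain ⟨h', e⟩ := Lift.act_eq hB h hU hz hθ
  exact ⟨h', _, e⟩

lemma lift_of_pair {a : V} {φ : Dual (ZMod p) V} (h : Has K a φ) (ha : a ≠ 0) (hφ : φ ≠ 0) :
    Lift K (Submodule.Quotient.mk ⟨a, mem_centres h hφ⟩) (bar h ha) :=
  ⟨a, φ, _, h, ha, hφ, rfl, fun _ => rfl⟩

theorem irr_core (hB : Block K) : Irr (act hB).range where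
  three := hB.three
  exists_pair := by
    obtain ⟨a, φ, h, ha, hφ⟩ := hB.exists_pair
    have hl := lift_of_pair h ha hφ
    exact ⟨_, _, hl.has hB, (hl.ne_zero hB).1, (hl.ne_zero hB).2⟩
  irr := by
    intro X hX
    let Y : Submodule (ZMod p) V :=
      (X.comap ((axker K).comap (centres K).subtype).mkQ).map (centres K).subtype
    have hY : ∀ a φ, Has K a φ → a ≠ 0 → φ ≠ 0 → a ∈ Y ∨ ∀ x ∈ Y, φ x = 0 := by
      intro a φ h ha hφ
      have hl := lift_of_pair h ha hφ
      rcases hX _ _ (hl.has hB) (hl.ne_zero hB).1 (hl.ne_zero hB).2 with h' | h'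
      · exact Or.inl ⟨⟨a, mem_centres h hφ⟩, h', rfl⟩
      · refine Or.inr ?_
        rintro x ⟨u, hu, rfl⟩
        exact h' _ hu
    rcases le_or_le hB hY with h | h
    · refine Or.inr (Submodule.eq_top_iff'.2 fun q => ?_)
      induction q using Submodule.Quotient.induction_on with
      | H x =>
        obtain ⟨u, hu, he⟩ := h x.2
        obtain rfl : u = x := Subtype.ext he
        exact hu
    · refine Or.inl ((Submodule.eq_bot_iff _).2 fun q hq => ?_)
      induction q using Submodule.Quotient.induction_on with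
      | H x => exact (Submodule.Quotient.mk_eq_zero _).2 (h ⟨x, hq, rfl⟩)

end CfsgLib.McL
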