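import Cfsg.Agent.McLaughlin.Block

/-!
# Structure of a component: the span of the centres is a direct summand
-/

set_option autoImplicit false

namespace CfsgLib.McL

open Module

variable {p : ℕ} [Fact p.Prime] {V : Type*} [AddCommGroup V] [Module (ZMod p) V] [Finite V]
  {K : Subgroup (V ≃ₗ[ZMod p] V)}

lemma finite_core : Finite (Core K) :=
  Finite.of_surjective (Submodule.Quotient.mk (p := (axker K).comap (centres K).subtype))
    (Submodule.Quotient.mk_surjective _)

attribute [local instance] finite_core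

lemma Lift.smul_right {z : Core K} {θ : Dual (ZMod p) (Core K)} (h : Lift K z θ) {c : ZMod p}
    (hc : c ≠ 0) : Lift K z (c • θ) := by
  obtain ⟨a, φ, hU, h, ha, hφ, hz, hθ⟩ := h
  exact ⟨a, c • φ, hU, h.smul_right c, ha, smul_ne_zero hc hφ, hz, fun x => by simp [hθ x]⟩

lemma Lift.conj (hB : Block K) {z : Core K} {θ : Dual (ZMod p) (Core K)} (h : Lift K z θ)
    {g : Core K ≃ₗ[ZMod p] Core K} (hg : g ∈ (act hB).range) :
    Lift K (g z) (θ ∘ₗ (g⁻¹ : Core K ≃ₗ[ZMod p] Core K).toLinearMap) := by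
  obtain ⟨k, rfl⟩ := hg
  obtain ⟨a, φ, hU, h, ha, hφ, rfl, hθ⟩ := h
  refine ⟨(k : V ≃ₗ[ZMod p] V) a, φ ∘ₗ ((k : V ≃ₗ[ZMod p] V)⁻¹).toLinearMap, apply_mem hB k.2 hU,
    h.conj k.2, (k : V ≃ₗ[ZMod p] V).map_ne_zero_iff.2 ha, fun e => hφ (LinearMap.ext fun x => ?_),
    (act_mk hB k ⟨a, hU⟩).symm, fun x => ?_⟩
  · simpa using LinearMap.congr_fun e ((k : V ≃ₗ[ZMod p] V) x)
  · rw [LinearMap.comp_apply, LinearEquiv.coe_coe, ← map_inv]
    exact hθ ⟨((k⁻¹ : ↥K) : V ≃ₗ[ZMod p] V) x, apply_mem hB (k⁻¹).2 x.2⟩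

theorem lift_all (hB : Block K) {z : Core K} {θ : Dual (ZMod p) (Core K)}
    (h : Has (act hB).range z θ) (hz : z ≠ 0) (hθ : θ ≠ 0) : Lift K z θ := by
  have hirr := irr_core hB
  obtain ⟨θ₀, hθ₀⟩ : ∃ θ₀, Lift K z θ₀ := by
    obtain ⟨a, φ, ha, ha0, hφ0⟩ := hB.exists_pair
    have hl := lift_of_pair ha ha0 hφ0
    set z₁ : Core K := Submodule.Quotient.mk ⟨a, mem_centres ha hφ0⟩
    have hz₁ : z₁ ≠ 0 := (hl.ne_zero hB).1
    obtain ⟨c, hc, hc1, hc2⟩ := exists_common hirr (pt_all hirr hz₁) (pt_all hirr hz)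
    obtain ⟨g, hg, eg⟩ := exists_conj hc1 (fun h' => hc1 (perp_symm hirr (pt_all hirr hz₁) hc h'))
    obtain ⟨k, hk, ek⟩ := exists_conj (fun h' => hc2 (perp_symm hirr (pt_all hirr hz) hc h')) hc2
    have h2 := (hl.conj hB hg).conj hB hk
    rw [eg, ek] at h2
    exact ⟨_, h2⟩
  have hθ₀0 : θ₀ ≠ 0 := (hθ₀.ne_zero hB).2
  by_cases hdep : θ ∈ Submodule.span (ZMod p) {θ₀}
  · obtain ⟨c, rfl⟩ := Submodule.mem_span_singleton.1 hdep
    exact hθ₀.smul_right fun e => hθ (by rw [e, zero_smul])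
  let ω : Dual (ZMod p) (Core K) := θ₀ - θ
  have hω : Has (act hB).range z ω := ((hθ₀.has hB).add_right (h.smul_right (-1))).congr rfl (by
    rw [show (-1 : ZMod p) • θ = -θ from neg_one_smul _ θ, ← sub_eq_add_neg])
  have hω0 : ω ≠ 0 := fun e => hdep (by
    rw [← sub_eq_zero.1 e]; exact Submodule.mem_span_singleton_self _)
  have hnle : ¬ LinearMap.ker ω ≤ LinearMap.ker θ₀ := by
    intro hle
    obtain ⟨c, hc⟩ := smul_of_ker_le hle
    apply hdep
    have hc0 : c ≠ 0 := fun e => hθ₀0 (by rw [hc, e, zero_smul])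
    have : θ = θ₀ - ω := (sub_sub_cancel θ₀ θ).symm
    rw [this]
    refine Submodule.sub_mem _ (Submodule.mem_span_singleton_self _) ?_
    rw [Submodule.mem_span_singleton]
    exact ⟨c⁻¹, by rw [hc, smul_smul, inv_mul_cancel₀ hc0, one_smul]⟩
  obtain ⟨y₀, hy₀, hy₀'⟩ := Set.not_subset.1 hnle
  have hy₀'' : θ₀ y₀ ≠ 0 := hy₀'
  let y : Core K := (θ₀ y₀)⁻¹ • y₀
  have hy1 : θ₀ y = 1 := by simp [y, inv_mul_cancel₀ hy₀'']
  have hy2 : ω y = 0 := by simp [y, LinearMap.mem_ker.1 hy₀]
  have hy0 : y ≠ 0 := fun e => by simp [e] at hy1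
  have h2 : 2 ≤ finrank (ZMod p) (axes (act hB).range z) := by
    by_contra hlt
    have hle : axes (act hB).range z ≤ Submodule.span (ZMod p) {θ₀} :=
      (Submodule.eq_of_le_of_finrank_le (S₁ := Submodule.span (ZMod p) {θ₀})
        ((Submodule.span_singleton_le_iff_mem _ _).2 (mem_axes.2 (hθ₀.has hB)))
        (by rw [finrank_span_singleton hθ₀0]; omega)).ge
    exact hdep (hle h)
  have hsmall : ∀ u, u ≠ 0 → ¬ axes (act hB).range u ≤ Submodule.span (ZMod p) {ω} := by
    intro u hu hle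
    have h1 := Submodule.finrank_mono hle
    rw [finrank_span_singleton hω0, finrank_axes_eq hirr hu hz] at h1
    omega
  have hyω : Has (act hB).range y ω :=
    (share_or_unique hirr hz hω hω0 hy0 hy2).resolve_right
      fun h' => h'.elim (hsmall z hz) (hsmall y hy0)
  have key := hθ₀.conj hB hyω.2
  have e1 : LinearEquiv.transvection hyω.1 z = z := by
    rw [tv_apply, hω.1, zero_smul, add_zero]
  have e2 : θ₀ ∘ₗ ((LinearEquiv.transvection hyω.1)⁻¹ : Core K ≃ₗ[ZMod p] Core K).toLinearMap = θ := by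
    refine LinearMap.ext fun x => ?_
    rw [LinearMap.comp_apply, LinearEquiv.coe_coe, tv_inv_apply, map_sub, map_smul, hy1, smul_eq_mul,
      mul_one]
    simp [ω]
  rwa [e1, e2] at key

lemma tv_inj_centre {a a' : V} {φ φ' : Dual (ZMod p) V} {h : φ a = 0} {h' : φ' a' = 0}
    (e : LinearEquiv.transvection h = LinearEquiv.transvection h') (x : V) :
    φ x • a = φ' x • a' := add_left_cancel (LinearEquiv.congr_fun e x)

theorem centre_unique (hB : Block K) {a a' : V} {φ φ' : Dual (ZMod p) V} (h : Has K a φ)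
    (h' : Has K a' φ') (ha : a ≠ 0) (ha' : a' ≠ 0) (hφ : φ ≠ 0) (hφ' : φ' ≠ 0)
    (e : a - a' ∈ axker K) : a = a' := by
  set z : Core K := Submodule.Quotient.mk ⟨a, mem_centres h hφ⟩ with hz
  have hz' : Submodule.Quotient.mk ⟨a', mem_centres h' hφ'⟩ = z :=
    ((Submodule.Quotient.eq _).2 (by exact e)).symm
  have hl := lift_of_pair h ha hφ
  have hl' := lift_of_pair h' ha' hφ'
  rw [hz'] at hl'
  by_cases hdep : bar h' ha' ∈ Submodule.span (ZMod p) {bar h ha}
  · obtain ⟨c, hc⟩ := Submodule.mem_span_singleton.1 hdep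
    obtain ⟨_, e1⟩ := Lift.act_eq hB (h.smul_right c) (mem_centres h hφ) hz.symm (θ := c • bar h ha)
      fun x => by simp [bar_mk]
    obtain ⟨_, e2⟩ := Lift.act_eq hB h' (mem_centres h' hφ') hz' (θ := bar h' ha') fun x => bar_mk h' ha' x
    have he := congrArg Subtype.val (act_injective hB (a₁ := ⟨_, (h.smul_right c).2⟩) (a₂ := ⟨_, h'.2⟩)
      (by rw [e1, e2]; simp [hc]))
    obtain ⟨x, hx, hx0⟩ := exists_axis_ne_zero hB h' ha' hφ'
    have hxa := tv_inj_centre (h := (h.smul_right c).1) (h' := h'.1) he x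
    have hcx : c * φ x = φ' x := by
      have := LinearMap.congr_fun hc (Submodule.Quotient.mk ⟨x, hx⟩)
      rwa [LinearMap.smul_apply, bar_mk, bar_mk, smul_eq_mul] at this
    rw [LinearMap.smul_apply, smul_eq_mul, hcx] at hxa
    exact smul_right_injective V hx0 hxa
  · have hsum : Has (act hB).range z (bar h ha + bar h' ha') := (hl.has hB).add_right (hl'.has hB)
    have hne : bar h ha + bar h' ha' ≠ 0 := fun e0 => hdep (by
      rw [eq_neg_of_add_eq_zero_right e0]
      exact Submodule.neg_mem _ (Submodule.mem_span_singleton_self _))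
    obtain ⟨b, ψ, hbU, hb, hb0, hψ0, hbz, hψ⟩ := lift_all hB hsum (hl.ne_zero hB).1 hne
    obtain ⟨_, e3⟩ := Lift.act_eq hB hb hbU hbz hψ
    obtain ⟨_, e1⟩ := Lift.act_eq hB h (mem_centres h hφ) hz.symm (θ := bar h ha) fun x => bar_mk h ha x
    obtain ⟨_, e2⟩ := Lift.act_eq hB h' (mem_centres h' hφ') hz' (θ := bar h' ha') fun x => bar_mk h' ha' x
    have hφa' : φ a' = 0 := by
      have : φ (a - a') = 0 := e a φ h ha
      rwa [map_sub, h.1, zero_sub, neg_eq_zero] at this
    have hprod : (⟨_, h.2⟩ : ↥K) * ⟨_, h'.2⟩ = ⟨_, hb.2⟩ := act_injective hB (by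
      rw [map_mul, e1, e2, e3]
      refine LinearEquiv.ext fun q => ?_
      simp only [LinearEquiv.mul_apply, tv_apply, map_add, map_smul, show bar h ha z = 0 from (hl.has hB).1, smul_zero,
        zero_smul, add_zero, LinearMap.add_apply, add_smul]
      abel)
    have heq : ∀ x, φ x • a + φ' x • a' = ψ x • b := fun x => by
      have := LinearEquiv.congr_fun (congrArg Subtype.val hprod) x
      simp only [Subgroup.coe_mul, LinearEquiv.mul_apply, tv_apply, map_add, map_smul, hφa', smul_zero,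
        zero_smul, add_zero, LinearMap.add_apply] at this
      exact add_left_cancel (a := x) (by rw [← this]; abel)
    -- test vectors
    have hnle : ¬ LinearMap.ker (bar h ha) ≤ LinearMap.ker (bar h' ha') := fun hle => by
      obtain ⟨c, hc⟩ := smul_of_ker_le hle
      exact hdep (hc ▸ Submodule.smul_mem _ _ (Submodule.mem_span_singleton_self _))
    obtain ⟨q₂, hq₂, hq₂'⟩ := Set.not_subset.1 hnle
    obtain ⟨x₂, rfl⟩ := Submodule.Quotient.mk_surjective _ q₂
    have hx2 : φ x₂ = 0 := hq₂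
    have hx2' : φ' x₂ ≠ 0 := hq₂'
    obtain ⟨x₁, hx₁, hx₁0⟩ := exists_axis_ne_zero hB h ha hφ
    let y := x₁ - (φ' x₁ / φ' x₂) • (x₂ : V)
    have hy : φ y = φ x₁ := by simp [y, hx2]
    have hy' : φ' y = 0 := by simp [y, div_mul_cancel₀ _ hx2']
    have ha_b : a ∈ Submodule.span (ZMod p) {b} := by
      have := heq y
      rw [hy, hy', zero_smul, add_zero] at this
      rw [← inv_smul_smul₀ hx₁0 a, this]
      exact Submodule.smul_mem _ _ (Submodule.smul_mem _ _ (Submodule.mem_span_singleton_self b))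
    have ha'_b : a' ∈ Submodule.span (ZMod p) {b} := by
      have := heq x₂
      rw [hx2, zero_smul, zero_add] at this
      rw [← inv_smul_smul₀ hx2' a', this]
      exact Submodule.smul_mem _ _ (Submodule.smul_mem _ _ (Submodule.mem_span_singleton_self b))
    have hd : a - a' ∈ Submodule.span (ZMod p) {b} := Submodule.sub_mem _ ha_b ha'_b
    obtain ⟨r, hr⟩ := Submodule.mem_span_singleton.1 hd
    rcases eq_or_ne r 0 with rfl | hr0
    · rw [zero_smul] at hr; exact sub_eq_zero.1 hr.symm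
    · exfalso
      refine centre_notMem_axker hB hb hb0 hψ0 ⟨hbU, ?_⟩
      have : b = r⁻¹ • (a - a') := by rw [← hr, inv_smul_smul₀ hr0]
      rw [this]
      exact Submodule.smul_mem _ _ e

/-- There is a linear section from the quotient through all centres, so nothing is killed. -/
theorem centres_inf_axker (hB : Block K) : centres K ⊓ axker K = ⊥ := by
  classical
  have hirr := irr_core hB
  have hex : ∀ z : Core K, z ≠ 0 → ∃ a φ, ∃ hU : a ∈ centres K, Has K a φ ∧ a ≠ 0 ∧ φ ≠ 0 ∧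
      Submodule.Quotient.mk ⟨a, hU⟩ = z := by
    intro z hz
    obtain ⟨θ, hθ, hθ0⟩ := exists_axis hirr hz
    obtain ⟨a, φ, hU, h, ha, hφ, e, -⟩ := lift_all hB hθ hz hθ0
    exact ⟨a, φ, hU, h, ha, hφ, e⟩
  choose A P hAU hA hA0 hP0 hAz using hex
  let σ : Core K → ↥(centres K) := fun z => if h : z = 0 then 0 else ⟨A z h, hAU z h⟩
  have hσ : ∀ z, Submodule.Quotient.mk (σ z) = z := by
    intro z
    simp only [σ]
    split_ifs with h
    · rw [h]; rfl
    · exact hAz z h
  -- every centre is a value of `σ`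
  have hcen : ∀ (a : V) (φ : Dual (ZMod p) V) (h : Has K a φ) (ha : a ≠ 0) (hφ : φ ≠ 0),
      σ (Submodule.Quotient.mk ⟨a, mem_centres h hφ⟩) = ⟨a, mem_centres h hφ⟩ := by
    intro a φ h ha hφ
    set z : Core K := Submodule.Quotient.mk ⟨a, mem_centres h hφ⟩ with hz
    have hz0 : z ≠ 0 := ((lift_of_pair h ha hφ).ne_zero hB).1
    simp only [σ, dif_neg hz0]
    refine Subtype.ext (centre_unique hB (hA z hz0) h (hA0 z hz0) ha (hP0 z hz0) hφ ?_)
    exact Submodule.mem_comap.1 ((Submodule.Quotient.eq ((axker K).comap (centres K).subtype)).1 ((hAz z hz0).trans hz))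
  have hsmul : ∀ (c : ZMod p) z, σ (c • z) = c • σ z := by
    intro c z
    rcases eq_or_ne c 0 with rfl | hc
    · simp [σ]
    rcases eq_or_ne z 0 with rfl | hz
    · simp [σ]
    have h := (hA z hz).smul_left c
    have hca : c • A z hz ≠ 0 := smul_ne_zero hc (hA0 z hz)
    have := hcen _ _ h hca (hP0 z hz)
    rw [show (⟨c • A z hz, mem_centres h (hP0 z hz)⟩ : ↥(centres K)) = c • ⟨A z hz, hAU z hz⟩ from rfl,
      Submodule.Quotient.mk_smul, hAz z hz] at this
    simpa [σ, hz] using this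
  have hadj : ∀ x y, ¬ Perp (act hB).range y x → σ (x + y) = σ x + σ y := by
    intro x y hxy
    rcases eq_or_ne x 0 with rfl | hx
    · exact absurd (fun φ _ => map_zero φ) hxy
    obtain ⟨θ, hθ, hθx⟩ := exists_axis_of_not_perp hxy
    by_cases hy : y = 0
    · subst hy; simp [σ]
    obtain ⟨b, ψ, hbU, hb, hb0, hψ0, hbz, hψ⟩ := lift_all hB hθ hy (fun e => by simp [e] at hθx)
    have hσy : σ y = ⟨b, hbU⟩ := by rw [← hbz]; exact hcen b ψ hb hb0 hψ0
    have hψa : ψ (A x hx) = 1 := by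
      have := hψ ⟨A x hx, hAU x hx⟩
      rw [hAz x hx, hθx] at this
      exact this.symm
    have hc := hb.conj_tv (hA x hx)
    rw [hψa, one_smul] at hc
    set η := P x hx - P x hx b • ψ
    have hη0 : η ≠ 0 := by
      intro e
      have e' : P x hx = P x hx b • ψ := sub_eq_zero.1 e
      have h' := LinearMap.congr_fun e' b
      rw [LinearMap.smul_apply, hb.1, smul_zero] at h'
      rw [h', zero_smul] at e'
      exact hP0 x hx e'
    have hne : A x hx + b ≠ 0 := fun e => by
      have := congrArg ψ e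
      rw [map_add, hψa, hb.1, add_zero, map_zero] at this
      exact one_ne_zero this
    have := hcen _ _ hc hne hη0
    rw [show (⟨A x hx + b, mem_centres hc hη0⟩ : ↥(centres K)) = ⟨A x hx, hAU x hx⟩ + ⟨b, hbU⟩ from rfl,
      Submodule.Quotient.mk_add, hAz x hx, hbz] at this
    rw [this, hσy]
    simp [σ, hx]
  have hadd : ∀ x y, σ (x + y) = σ x + σ y := by
    intro x y
    rcases eq_or_ne x 0 with rfl | hx
    · simp [σ]
    rcases eq_or_ne y 0 with rfl | hy
    · simp [σ]
    rcases eq_or_ne (x + y) 0 with hxy | hxy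
    · rw [hxy, eq_neg_of_add_eq_zero_right hxy, ← neg_one_smul (ZMod p) x, hsmul, neg_one_smul]
      simp [σ]
    by_cases hp : Perp (act hB).range y x
    swap
    · exact hadj x y hp
    have hsym : ∀ u v : Core K, u ≠ 0 → v ≠ 0 → Perp (act hB).range u v → Perp (act hB).range v u :=
      fun u v hu hv => perp_symm hirr (pt_all hirr hu) (pt_all hirr hv)
    obtain ⟨z, hz1, hz2, hz3⟩ := exists_notMem_three hB.three (ker_ne_top hirr hx) (ker_ne_top hirr hy)
      (ker_ne_top hirr hxy)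
    have hz0 : z ≠ 0 := fun e => hz1 (e ▸ (ker _ x).zero_mem)
    have e1 : σ (y + z) = σ y + σ z := hadj y z fun h => hz2 (hsym z y hz0 hy h)
    have e2 : σ (x + y + z) = σ (x + y) + σ z := hadj _ z fun h => hz3 (hsym z _ hz0 hxy h)
    have e3 : σ (x + (y + z)) = σ x + σ (y + z) := hadj x _ fun h => hz1 (by
      rcases eq_or_ne (y + z) 0 with h0 | h0
      · have : z = -y := eq_neg_of_add_eq_zero_right h0
        rw [this]
        exact (ker _ x).neg_mem (hsym y x hy hx hp)
      · have h' : y + z ∈ ker (act hB).range x := hsym _ x h0 hx h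
        simpa using (ker _ x).sub_mem h' (hsym y x hy hx hp : y ∈ ker (act hB).range x))
    rw [← add_assoc, e2, e1] at e3
    exact add_right_cancel (b := σ z) (by rw [e3]; abel)
  let f : Core K →ₗ[ZMod p] V :=
    { toFun := fun z => (σ z : V)
      map_add' := fun x y => by rw [hadd]; rfl
      map_smul' := fun c x => by rw [hsmul]; rfl }
  have hsub : centres K ≤ LinearMap.range f := Submodule.span_le.2 (by
    rintro a ⟨φ, h, hφ⟩
    rcases eq_or_ne a 0 with rfl | ha
    · exact (LinearMap.range f).zero_mem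
    · exact ⟨_, congrArg Subtype.val (hcen a φ h ha hφ)⟩)
  refine (Submodule.eq_bot_iff _).2 fun x hx => ?_
  obtain ⟨z, hz⟩ := hsub hx.1
  have h0 : Submodule.Quotient.mk (σ z) = (0 : Core K) := by
    refine (Submodule.Quotient.mk_eq_zero _).2 ?_
    change (σ z : V) ∈ axker K
    rw [show (σ z : V) = x from hz]
    exact hx.2
  rw [hσ] at h0
  rw [← hz, h0, map_zero]

end CfsgLib.McL
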