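import Cfsg.Agent.McLaughlin.BlockMain

/-!
# A component acts as a full special linear or symplectic group on a direct summand
-/

set_option autoImplicit false

namespace CfsgLib.McL

open Module

variable {p : ℕ} [Fact p.Prime] {V : Type*} [AddCommGroup V] [Module (ZMod p) V] [Finite V]
  {K : Subgroup (V ≃ₗ[ZMod p] V)}

/-- The contragredient representation. -/
def contra : (V ≃ₗ[ZMod p] V) →* (Dual (ZMod p) V ≃ₗ[ZMod p] Dual (ZMod p) V) where
  toFun g := g.symm.dualMap
  map_one' := LinearEquiv.ext fun f => LinearMap.ext fun x => rfl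
  map_mul' g k := LinearEquiv.ext fun f => LinearMap.ext fun x => rfl

lemma contra_apply (g : V ≃ₗ[ZMod p] V) (f : Dual (ZMod p) V) (x : V) :
    contra g f x = f (g.symm x) := rfl

lemma contra_injective : Function.Injective (contra (p := p) (V := V)) := by
  refine (injective_iff_map_eq_one _).2 fun g hg => LinearEquiv.ext fun x => ?_
  by_contra hne
  obtain ⟨f, hf⟩ : ∃ f : Dual (ZMod p) V, f (g x - x) ≠ 0 := by
    by_contra hc
    push Not at hc
    exact sub_ne_zero.2 hne ((Module.forall_dual_apply_eq_zero_iff (ZMod p) _).1 hc)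
  apply hf
  have := LinearMap.congr_fun (LinearEquiv.congr_fun hg f) (g x)
  rw [contra_apply, g.symm_apply_apply] at this
  rw [map_sub, sub_eq_zero]
  exact this.symm

lemma contra_tv {a : V} {φ : Dual (ZMod p) V} (h : φ a = 0) :
    contra (LinearEquiv.transvection h) =
      LinearEquiv.transvection (f := -(Dual.eval (ZMod p) V a)) (v := φ)
        (show -(φ a) = 0 by rw [h, neg_zero]) := by
  refine LinearEquiv.ext fun f => LinearMap.ext fun x => ?_
  rw [contra_apply]
  change f ((LinearEquiv.transvection h)⁻¹ x) = _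
  rw [tv_inv_apply]
  change f (x - φ x • a) = (f + (-(f a)) • φ) x
  simp [mul_comm, sub_eq_add_neg]

lemma has_contra {a : V} {φ : Dual (ZMod p) V} (h : Has K a φ) :
    Has (K.map contra) φ (-(Dual.eval (ZMod p) V a)) :=
  ⟨_, contra_tv h.1 ▸ Subgroup.mem_map_of_mem _ h.2⟩

lemma has_of_contra {φ : Dual (ZMod p) V} {Φ : Dual (ZMod p) (Dual (ZMod p) V)}
    (h : Has (K.map contra) φ Φ) : ∃ a, Has K a φ ∧ Φ = -(Dual.eval (ZMod p) V a) := by
  obtain ⟨b, hb⟩ := (Module.evalEquiv (ZMod p) V).surjective (-Φ)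
  have hΦ : Φ = -(Dual.eval (ZMod p) V b) := by
    have hb' : Dual.eval (ZMod p) V b = -Φ := hb
    rw [hb', neg_neg]
  have hb0 : φ b = 0 := by
    have := h.1
    rw [hΦ] at this
    simpa using this
  obtain ⟨g, hg, e⟩ := h.2
  refine ⟨b, ⟨hb0, ?_⟩, hΦ⟩
  have : contra g = contra (LinearEquiv.transvection hb0) := by
    rw [contra_tv, e]
    subst hΦ
    rfl
  rwa [← contra_injective this]

lemma eval_ne_zero {a : V} (ha : a ≠ 0) : -(Dual.eval (ZMod p) V a) ≠ 0 := by
  rw [neg_ne_zero]
  intro e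
  exact ha ((Module.forall_dual_apply_eq_zero_iff (ZMod p) a).1 fun f => LinearMap.congr_fun e f)

theorem block_contra (hB : Block K) : Block (K.map contra) where
  three := hB.three
  gen := by
    refine (Subgroup.map_mono hB.gen).trans ?_
    rw [MonoidHom.map_closure]
    refine Subgroup.closure_mono ?_
    rintro _ ⟨g, ⟨a, φ, h, rfl, hg⟩, rfl⟩
    exact ⟨φ, _, _, contra_tv h, Subgroup.mem_map_of_mem _ hg⟩
  exists_pair := by
    obtain ⟨a, φ, h, ha, hφ⟩ := hB.exists_pair
    exact ⟨φ, _, has_contra h, hφ, eval_ne_zero ha⟩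
  conn := by
    intro S ⟨φ, Φ, h, hφ, hΦ, hS⟩ hstep φ' Φ' h' hφ' hΦ'
    obtain ⟨a, ha, rfl⟩ := has_of_contra h
    obtain ⟨a', ha', rfl⟩ := has_of_contra h'
    refine hB.conn (fun a φ => S φ (-(Dual.eval (ZMod p) V a))) ⟨a, φ, ha, fun e => hΦ (by simp [e]), hφ, hS⟩
      (fun a φ b ψ h ha hφ hS h' hb hψ hadj => hstep _ _ _ _ (has_contra h) hφ (eval_ne_zero ha) hS
        (has_contra h') hψ (eval_ne_zero hb) ?_) a' φ' ha' (fun e => hΦ' (by simp [e])) hφ'
    rcases hadj with h1 | h1
    · exact Or.inr (by simpa using h1)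
    · exact Or.inl (by simpa using h1)
  core := by
    rw [eq_bot_iff]
    refine sSup_le ?_
    rintro N ⟨hN, hp⟩
    intro g hg
    let e := K.equivMapOfInjective contra contra_injective
    have hle : N.comap e.toMonoidHom ≤ Cfsg.pCore p ↥K :=
      le_sSup ⟨hN.comap _, hp.comap_of_injective e.toMonoidHom e.injective⟩
    rw [hB.core] at hle
    have : e.symm g ∈ N.comap e.toMonoidHom := by
      rw [Subgroup.mem_comap]
      change e (e.symm g) ∈ N
      rwa [e.apply_symm_apply]
    rw [Subgroup.mem_bot]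
    have h1 := Subgroup.mem_bot.1 (hle this)
    rw [← e.apply_symm_apply g, h1, map_one]

theorem isCompl_centres_axker (hB : Block K) : IsCompl (centres K) (axker K) := by
  refine ⟨disjoint_iff.2 (centres_inf_axker hB), codisjoint_iff.2 ?_⟩
  by_contra hne
  obtain ⟨x, hx⟩ := not_forall.1 fun hh => hne (Submodule.eq_top_iff'.2 hh)
  obtain ⟨f, hfx, hf⟩ := Submodule.exists_dual_map_eq_bot_of_notMem hx inferInstance
  have hker : ∀ y ∈ centres K ⊔ axker K, f y = 0 := fun y hy => by
    have : f y ∈ (centres K ⊔ axker K).map f := Submodule.mem_map_of_mem hy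
    rwa [hf, Submodule.mem_bot] at this
  let Φ₀ : Submodule (ZMod p) (Dual (ZMod p) V) := centres (K.map contra)
  have hL : Φ₀.dualCoannihilator ≤ axker K := by
    intro y hy a φ h ha
    rcases eq_or_ne φ 0 with rfl | hφ
    · rfl
    exact (Submodule.mem_dualCoannihilator y).1 hy φ (mem_centres (has_contra h) (eval_ne_zero ha))
  have hfΦ : f ∈ Φ₀ := by
    rw [← Subspace.dualCoannihilator_dualAnnihilator_eq (W := Φ₀), Submodule.mem_dualAnnihilator]
    exact fun y hy => hker y (Submodule.mem_sup_right (hL hy))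
  have hfk : f ∈ axker (K.map contra) := by
    intro φ Φ h hφ
    obtain ⟨a, ha, rfl⟩ := has_of_contra h
    have : f a = 0 := hker a (Submodule.mem_sup_left (mem_centres ha hφ))
    simpa using this
  haveI : Finite (Dual (ZMod p) V) := Module.finite_of_finite (ZMod p)
  have hbot := centres_inf_axker (block_contra hB)
  have : f ∈ centres (K.map contra) ⊓ axker (K.map contra) := ⟨hfΦ, hfk⟩
  rw [hbot, Submodule.mem_bot] at this
  exact hfx (by rw [this]; rfl)

/-- The group induced on the span of the centres is the special linear or a symplectic group. -/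
theorem exists_rep (hB : Block K) :
    ∃ ρ : ↥K →* (↥(centres K) ≃ₗ[ZMod p] ↥(centres K)),
      (∀ (h : ↥K) (v : ↥(centres K)), ((ρ h v : ↥(centres K)) : V) = (h : V ≃ₗ[ZMod p] V) (v : V)) ∧
      ((ρ.range : Set (↥(centres K) ≃ₗ[ZMod p] ↥(centres K))) =
          {f : ↥(centres K) ≃ₗ[ZMod p] ↥(centres K) | LinearMap.det (f : ↥(centres K) →ₗ[ZMod p] ↥(centres K)) = 1} ∨
        ∃ B : LinearMap.BilinForm (ZMod p) ↥(centres K), B.IsAlt ∧ B.Nondegenerate ∧
          (ρ.range : Set (↥(centres K) ≃ₗ[ZMod p] ↥(centres K))) =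
            {f : ↥(centres K) ≃ₗ[ZMod p] ↥(centres K) | ∀ x y, B (f x) (f y) = B x y}) := by
  haveI : Finite (Core K) := finite_core
  have hbot : (axker K).comap (centres K).subtype = ⊥ := by
    refine (Submodule.eq_bot_iff _).2 fun x hx => Subtype.ext ?_
    have : (x : V) ∈ centres K ⊓ axker K := ⟨x.2, hx⟩
    rwa [centres_inf_axker hB, Submodule.mem_bot] at this
  let e : Core K ≃ₗ[ZMod p] ↥(centres K) := Submodule.quotEquivOfEqBot _ hbot
  have he : ∀ x, e (Submodule.Quotient.mk x) = x := fun x => Submodule.quotEquivOfEqBot_apply_mk _ hbot x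
  let cj : (Core K ≃ₗ[ZMod p] Core K) →* (↥(centres K) ≃ₗ[ZMod p] ↥(centres K)) :=
    { toFun := fun g => (e.symm.trans g).trans e
      map_one' := LinearEquiv.ext fun x => e.apply_symm_apply x
      map_mul' := fun g k => LinearEquiv.ext fun x => by simp [LinearEquiv.mul_apply] }
  let ρ := cj.comp (act hB)
  have hρ : ∀ (h : ↥K) (v : ↥(centres K)),
      ρ h v = ⟨(h : V ≃ₗ[ZMod p] V) v, apply_mem hB h.2 v.2⟩ := by
    intro h v
    change e (act hB h (e.symm v)) = _
    have hv : e.symm v = Submodule.Quotient.mk v := by rw [e.symm_apply_eq, he]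
    rw [hv, act_mk, he]
  refine ⟨ρ, fun h v => by rw [hρ], ?_⟩
  have hirr := irr_core hB
  -- membership in the range is decided on the quotient
  have hmem : ∀ f : ↥(centres K) ≃ₗ[ZMod p] ↥(centres K),
      f ∈ ρ.range ↔ (e.trans f).trans e.symm ∈ (act hB).range := by
    intro f
    constructor
    · rintro ⟨k, rfl⟩
      exact ⟨k, LinearEquiv.ext fun x => by simp [ρ, cj]⟩
    · rintro ⟨k, hk⟩
      exact ⟨k, LinearEquiv.ext fun x => by simp [ρ, cj, hk]⟩
  -- every element of the image is a product of transvections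
  have hgen : ∀ P : Subgroup (Core K ≃ₗ[ZMod p] Core K),
      (∀ z θ, ∀ h' : θ z = 0, Has (act hB).range z θ → LinearEquiv.transvection h' ∈ P) →
      (act hB).range ≤ P := by
    intro P hP
    rintro _ ⟨k, rfl⟩
    suffices ∀ g (hg : g ∈ K), act hB ⟨g, hg⟩ ∈ P from this k.1 k.2
    intro g hg
    have hg' := hB.gen hg
    revert hg
    induction hg' using Subgroup.closure_induction with
    | mem y hy =>
      intro hg
      obtain ⟨a, φ, h, rfl, -⟩ := hy
      by_cases h0 : a = 0 ∨ φ = 0
      · have : (⟨_, hg⟩ : ↥K) = 1 := Subtype.ext ((tv_eq_one_iff h).2 h0)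
        rw [this, map_one]; exact P.one_mem
      · push Not at h0
        obtain ⟨h', e'⟩ := Lift.act_eq hB (⟨h, hg⟩ : Has K a φ) (mem_centres ⟨h, hg⟩ h0.2)
          (z := Submodule.Quotient.mk ⟨a, mem_centres ⟨h, hg⟩ h0.2⟩) rfl (θ := bar ⟨h, hg⟩ h0.1)
          (fun x => bar_mk _ _ x)
        rw [e']
        exact hP _ _ h' ((lift_of_pair ⟨h, hg⟩ h0.1 h0.2).has hB)
    | one => intro hg; exact (map_one (act hB)).symm ▸ P.one_mem
    | mul a b ha hb iha ihb =>
      intro hg
      have hle : Subgroup.closure {g | ∃ (a : V) (φ : Dual (ZMod p) V) (h : φ a = 0),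
          g = LinearEquiv.transvection h ∧ g ∈ K} ≤ K :=
        (Subgroup.closure_le _).2 fun g ⟨_, _, _, _, hg⟩ => hg
      rw [show (⟨a * b, hg⟩ : ↥K) = ⟨a, hle ha⟩ * ⟨b, hle hb⟩ from rfl, map_mul]
      exact P.mul_mem (iha _) (ihb _)
    | inv a ha iha =>
      intro hg
      rw [show (⟨a⁻¹, hg⟩ : ↥K) = ⟨a, K.inv_mem_iff.1 hg⟩⁻¹ from rfl, map_inv]
      exact P.inv_mem (iha _)
  rcases dichotomy hirr with hfull | ⟨B, hB'⟩
  · refine Or.inl (Set.ext fun f => ?_)
    rw [SetLike.mem_coe, hmem]
    constructor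
    · intro hf
      let P : Subgroup (Core K ≃ₗ[ZMod p] Core K) :=
        (LinearEquiv.det : (Core K ≃ₗ[ZMod p] Core K) →* (ZMod p)ˣ).ker
      have h1 : (e.trans f).trans e.symm ∈ P := hgen P (fun z θ h' _ => by
        rw [MonoidHom.mem_ker, LinearEquiv.transvection.det_eq_one h']) hf
      rw [MonoidHom.mem_ker, ← Units.val_inj, LinearEquiv.coe_det, Units.val_one] at h1
      change LinearMap.det _ = 1
      rw [← h1, ← LinearMap.det_conj (f : ↥(centres K) →ₗ[ZMod p] ↥(centres K)) e.symm]
      rfl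
    · intro hf
      refine mem_of_isFull hfull ?_
      rw [← (show LinearMap.det (f : ↥(centres K) →ₗ[ZMod p] ↥(centres K)) = 1 from hf),
        ← LinearMap.det_conj (f : ↥(centres K) →ₗ[ZMod p] ↥(centres K)) e.symm]
      rfl
  · let B' : LinearMap.BilinForm (ZMod p) ↥(centres K) :=
      B.compl₁₂ e.symm.toLinearMap e.symm.toLinearMap
    have alt : ∀ x, B x x = 0 := hB'.1
    have skew : ∀ x y, B x y = -B y x := by
      intro x y
      have h := alt (x + y)
      simp only [map_add, LinearMap.add_apply, alt] at h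
      linear_combination h
    refine Or.inr ⟨B', fun x => alt _, ⟨fun x hx => ?_, fun y hy => ?_⟩, Set.ext fun f => ?_⟩
    · refine e.symm.map_eq_zero_iff.1 (hB'.2.1 _ (LinearMap.ext fun z => ?_))
      simpa [B'] using hx (e z)
    · refine e.symm.map_eq_zero_iff.1 (hB'.2.1 _ (LinearMap.ext fun z => ?_))
      rw [skew]
      simpa [B'] using hy (e z)
    rw [SetLike.mem_coe, hmem]
    constructor
    · intro hf
      let P : Subgroup (Core K ≃ₗ[ZMod p] Core K) :=
        { carrier := {g | ∀ x y, B (g x) (g y) = B x y}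
          one_mem' := fun x y => rfl
          mul_mem' := fun {g k} hg hk x y => (hg _ _).trans (hk x y)
          inv_mem' := fun {g} hg x y => by
            have := hg (g⁻¹ x) (g⁻¹ y)
            rw [← LinearEquiv.mul_apply, ← LinearEquiv.mul_apply, mul_inv_cancel] at this
            exact this.symm }
      have h1 : (e.trans f).trans e.symm ∈ P := hgen P (fun z θ h' hθ => by
        intro x y
        rcases eq_or_ne z 0 with rfl | hz
        · simp [tv_apply]
        obtain ⟨c, rfl⟩ := hB'.2.2.2 z θ hz hθ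
        simp only [tv_apply, LinearMap.smul_apply, smul_eq_mul, map_add, map_smul, LinearMap.add_apply,
          LinearMap.smul_apply, alt z, skew x z]
        ring) hf
      intro x y
      have := h1 (e.symm x) (e.symm y)
      simpa [B'] using this
    · intro hf
      refine mem_of_isSympType hB' fun x y => ?_
      have := hf (e x) (e y)
      simpa [B'] using this

end CfsgLib.McL
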