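import Cfsg.Agent.McLaughlin.Irreducible

/-!
# The two types of irreducible transvection groups
-/

set_option autoImplicit false

namespace CfsgLib.McL

open Module

variable {p : ℕ} [Fact p.Prime] {W : Type*} [AddCommGroup W] [Module (ZMod p) W] [Finite W]
  {G : Subgroup (W ≃ₗ[ZMod p] W)} (hG : Irr G)

include hG in
lemma exists_axis {a : W} (ha : a ≠ 0) : ∃ φ, Has G a φ ∧ φ ≠ 0 := by
  obtain ⟨φ, hφ, h0⟩ := Submodule.exists_mem_ne_zero_of_ne_bot (pt_all hG ha).2
  exact ⟨φ, hφ, h0⟩

include hG in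
lemma ker_ne_top {a : W} (ha : a ≠ 0) : ker G a ≠ ⊤ := by
  intro e
  obtain ⟨φ, hφ, h0⟩ := exists_axis hG ha
  exact h0 (LinearMap.ext fun y => mem_ker.1 (e ▸ Submodule.mem_top : y ∈ ker G a) φ hφ)

/-- The uniform dichotomy: an axis is shared along its hyperplane, or it is unique. -/
lemma smul_of_ker_le {φ ψ : Dual (ZMod p) W} (h : LinearMap.ker ψ ≤ LinearMap.ker φ) :
    ∃ c : ZMod p, φ = c • ψ := by
  by_cases hψ : ψ = 0
  · exact ⟨0, by
      subst hψ
      rw [zero_smul]
      exact LinearMap.ext fun y => h (by simp)⟩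
  obtain ⟨x, hx⟩ := exists_ne_zero_of_dual hψ
  refine ⟨φ x / ψ x, LinearMap.ext fun y => ?_⟩
  have : y - (ψ y / ψ x) • x ∈ LinearMap.ker φ := h (by simp [hx])
  simp only [LinearMap.mem_ker, map_sub, map_smul, smul_eq_mul, sub_eq_zero] at this
  rw [LinearMap.smul_apply, smul_eq_mul, this]
  field_simp

include hG in
/-- An axis at `a` is an axis at every non-zero vector of its kernel, unless it is the only one. -/
lemma share_or_unique {a z : W} {ψ : Dual (ZMod p) W} (ha : a ≠ 0) (hψ : Has G a ψ) (hψ0 : ψ ≠ 0)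
    (hz : z ≠ 0) (hψz : ψ z = 0) :
    Has G z ψ ∨ axes G a ≤ Submodule.span (ZMod p) {ψ} ∨ axes G z ≤ Submodule.span (ZMod p) {ψ} := by
  have step : ∀ u v, Has G u ψ → ψ v = 0 → ¬ Perp G v u → Has G v ψ := by
    intro u v hu hv hvu
    obtain ⟨χ, hχ, hχu⟩ := exists_axis_of_not_perp hvu
    exact hχ.comm hu (by rw [hχu]; exact one_ne_zero) hv
  by_cases hb : ∀ b, ψ b = 0 → b ∈ ker G a ∨ b ∈ ker G z
  · have : LinearMap.ker ψ ≤ ker G a ∨ LinearMap.ker ψ ≤ ker G z := by
      by_contra hc
      push Not at hc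
      obtain ⟨u, hu, hua⟩ := Set.not_subset.1 hc.1
      obtain ⟨v, hv, hvz⟩ := Set.not_subset.1 hc.2
      have huz := (hb u hu).resolve_left hua
      have hva := (hb v hv).resolve_right hvz
      rcases hb (u + v) (by simp [LinearMap.mem_ker.1 hu, LinearMap.mem_ker.1 hv]) with h | h
      · exact hua (by simpa using (ker G a).sub_mem h hva)
      · exact hvz (by simpa using (ker G z).sub_mem h huz)
    have conv : ∀ u, LinearMap.ker ψ ≤ ker G u → axes G u ≤ Submodule.span (ZMod p) {ψ} := by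
      intro u hle φ hφ
      obtain ⟨c, rfl⟩ := smul_of_ker_le (φ := φ) fun y hy => mem_ker.1 (hle hy) φ hφ
      exact Submodule.mem_span_singleton.2 ⟨c, rfl⟩
    exact Or.inr (this.imp (conv a) (conv z))
  · push Not at hb
    obtain ⟨b, hψb, hba, hbz⟩ := hb
    have hb0 : b ≠ 0 := fun e => hba (e ▸ (ker G a).zero_mem)
    have h1 : Has G b ψ := step a b hψ hψb fun h => hba (perp_symm hG (pt_all hG hb0) (pt_all hG ha) h)
    exact Or.inl (step b z h1 hψz hbz)

include hG in
lemma finrank_axes_eq {a b : W} (ha : a ≠ 0) (hb : b ≠ 0) :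
    finrank (ZMod p) (axes G a) = finrank (ZMod p) (axes G b) := by
  obtain ⟨c, hc, hca, hcb⟩ := exists_common hG (pt_all hG ha) (pt_all hG hb)
  have key : ∀ u, u ≠ 0 → ¬ Perp G c u →
      finrank (ZMod p) (axes G c) = finrank (ZMod p) (axes G u) := by
    intro u hu hcu
    obtain ⟨g, hg, e⟩ := exists_conj (a := u) (c := c)
      (fun h => hcu (perp_symm hG (pt_all hG hu) hc h)) hcu
    rw [← e, finrank_axes_conj hg]
  rw [← key a ha hca, key b hb hcb]

/-- Every incident pair is a transvection of `G`. -/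
def IsFull (G : Subgroup (W ≃ₗ[ZMod p] W)) : Prop :=
  ∀ (a : W) (φ : Dual (ZMod p) W), φ a = 0 → Has G a φ

/-- The transvections of `G` are those of the alternating form `B`. -/
def IsSympType (G : Subgroup (W ≃ₗ[ZMod p] W)) (B : W →ₗ[ZMod p] Dual (ZMod p) W) : Prop :=
  (∀ x, B x x = 0) ∧ (∀ x, B x = 0 → x = 0) ∧ (∀ a, Has G a (B a)) ∧
    ∀ a φ, a ≠ 0 → Has G a φ → ∃ c : ZMod p, φ = c • B a

include hG in
lemma isFull_of_two {a : W} (ha : a ≠ 0) (h2 : 2 ≤ finrank (ZMod p) (axes G a)) : IsFull G := by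
  have share : ∀ u v ψ, u ≠ 0 → Has G u ψ → v ≠ 0 → ψ v = 0 → Has G v ψ := by
    intro u v ψ hu hψ hv hv0
    rcases eq_or_ne ψ 0 with rfl | hψ0
    · exact has_zero_right G v
    have big : ∀ x, x ≠ 0 → ¬ axes G x ≤ Submodule.span (ZMod p) {ψ} := by
      intro x hx hle
      have h1 := Submodule.finrank_mono hle
      rw [finrank_span_singleton hψ0, finrank_axes_eq hG hx ha] at h1
      omega
    exact ((share_or_unique hG hu hψ hψ0 hv hv0).resolve_right fun h => h.elim (big u hu) (big v hv))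
  let Y : Submodule (ZMod p) (Dual (ZMod p) W) :=
    { carrier := {θ | ∀ x, x ≠ 0 → θ x = 0 → Has G x θ}
      zero_mem' := fun x _ _ => has_zero_right G x
      smul_mem' := fun c θ hθ x hx hc => by
        rcases eq_or_ne c 0 with rfl | hc0
        · rw [zero_smul]; exact has_zero_right G x
        · exact (hθ x hx (by simpa [hc0] using hc)).smul_right c
      add_mem' := fun {θ η} hθ hη x hx hsum => by
        obtain ⟨z, hz, hz0⟩ : ∃ z, z ∈ LinearMap.ker θ ⊓ LinearMap.ker η ∧ z ≠ 0 := by
          refine Submodule.exists_mem_ne_zero_of_ne_bot fun e => ?_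
          have hk : ∀ f : Dual (ZMod p) W, finrank (ZMod p) W ≤ finrank (ZMod p) (LinearMap.ker f) + 1 := by
            intro f
            have h1 := LinearMap.finrank_range_add_finrank_ker f
            have h2 := (Submodule.finrank_le (LinearMap.range f)).trans_eq (finrank_self (ZMod p))
            omega
          have h4 := Submodule.finrank_sup_add_finrank_inf_eq (LinearMap.ker θ) (LinearMap.ker η)
          rw [e, finrank_bot] at h4
          have h5 := Submodule.finrank_le (LinearMap.ker θ ⊔ LinearMap.ker η)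
          have h6 := hk θ
          have h7 := hk η
          have h8 : 3 ≤ finrank (ZMod p) W := by
            have hle : axes G a ≤ (Submodule.span (ZMod p) {a}).dualAnnihilator := by
              intro φ hφ
              rw [Submodule.mem_dualAnnihilator]
              intro y hy
              obtain ⟨r, rfl⟩ := Submodule.mem_span_singleton.1 hy
              rw [map_smul, (mem_axes.1 hφ).1, smul_zero]
            have h9 := (Submodule.finrank_mono hle).trans_eq' rfl
            have h10 := Subspace.finrank_add_finrank_dualAnnihilator_eq (Submodule.span (ZMod p) {a})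
            rw [finrank_span_singleton ha] at h10
            omega
          omega
        have h1 := (hθ z hz0 (LinearMap.mem_ker.1 hz.1)).add_right (hη z hz0 (LinearMap.mem_ker.1 hz.2))
        exact share z x _ hz0 h1 hx hsum }
  have hpair : ∀ e θ, Has G e θ → e ≠ 0 → θ ∈ Y :=
    fun e θ h he x hx hx0 => share e x θ he h hx hx0
  have hY : Y = ⊤ := by
    rcases hG.irr Y.dualCoannihilator (fun e θ he he0 _ => Or.inr fun y hy =>
      (Submodule.mem_dualCoannihilator y).1 hy θ (hpair e θ he he0)) with h | h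
    · rw [← Subspace.dualCoannihilator_dualAnnihilator_eq (W := Y), h, Submodule.dualAnnihilator_bot]
    · obtain ⟨e, θ, he, he0, hθ⟩ := hG.exists_pair
      refine absurd (LinearMap.ext fun y => ?_) hθ
      exact (Submodule.mem_dualCoannihilator y).1 (h ▸ Submodule.mem_top) θ (hpair e θ he he0)
  intro x θ hx
  rcases eq_or_ne x 0 with rfl | h0
  · exact has_zero_left G θ
  exact (hY ▸ Submodule.mem_top : θ ∈ Y) x h0 hx

include hG in
lemma exists_sympType {a : W} (ha : a ≠ 0)
    (h1 : ∀ x : W, x ≠ 0 → finrank (ZMod p) (axes G x) ≤ 1) :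
    ∃ B, IsSympType G B := by
  classical
  have uniq : ∀ x φ ψ, x ≠ 0 → Has G x φ → φ ≠ 0 → Has G x ψ → ∃ c : ZMod p, ψ = c • φ := by
    intro x φ ψ hx hφ hφ0 hψ
    have he : Submodule.span (ZMod p) {φ} = axes G x :=
      Submodule.eq_of_le_of_finrank_le ((Submodule.span_singleton_le_iff_mem _ _).2 hφ)
        (by rw [finrank_span_singleton hφ0]; exact h1 x hx)
    obtain ⟨c, hc⟩ := Submodule.mem_span_singleton.1 (he.symm ▸ mem_axes.2 hψ)
    exact ⟨c, hc.symm⟩
  obtain ⟨φ₀, hφ₀, hφ₀0⟩ := exists_axis hG ha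
  let D : Set W := {x | φ₀ x ≠ 0}
  have hD0 : ∀ x ∈ D, x ≠ 0 := fun x hx e => hx (by rw [e]; exact map_zero φ₀)
  have hex : ∀ x ∈ D, ∃ f, Has G x f ∧ f a = -φ₀ x := by
    intro x hx
    obtain ⟨f, hf, hfa⟩ := exists_axis_of_not_perp (G := G) (a := x) (b := a) fun h =>
      hx (perp_symm hG (pt_all hG (hD0 x hx)) (pt_all hG ha) h φ₀ hφ₀)
    exact ⟨(-φ₀ x) • f, hf.smul_right _, by simp [hfa]⟩
  choose f hf hfa using hex
  have hf0 : ∀ x (hx : x ∈ D), f x hx ≠ 0 := fun x hx e => hx (by
    have := hfa x hx; rw [e] at this; simpa using this.symm)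
  have perp_iff : ∀ x (hx : x ∈ D) (y : W), Perp G x y ↔ f x hx y = 0 := by
    intro x hx y
    refine ⟨fun h => h _ (hf x hx), fun h φ hφ => ?_⟩
    obtain ⟨c, rfl⟩ := uniq x _ _ (hD0 x hx) (hf x hx) (hf0 x hx) hφ
    simp [h]
  have anti : ∀ x y (hx : x ∈ D) (hy : y ∈ D), f x hx y = -f y hy x := by
    intro x y hx hy
    by_cases hxy : f x hx y = 0
    · rw [hxy, (perp_iff y hy x).1 (perp_symm hG (pt_all hG (hD0 x hx)) (pt_all hG (hD0 y hy))
        ((perp_iff x hx y).2 hxy)), neg_zero]
    have hyx : f y hy x ≠ 0 := fun e => hxy ((perp_iff x hx y).1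
      (perp_symm hG (pt_all hG (hD0 y hy)) (pt_all hG (hD0 x hx)) ((perp_iff y hy x).2 e)))
    have hy' : φ₀ y ≠ 0 := hy
    let μ := -(φ₀ x) / φ₀ y
    have hμ : μ ≠ 0 := div_ne_zero (neg_ne_zero.2 hx) hy'
    let s := μ / f y hy x
    have hs : s * f y hy x = μ := div_mul_cancel₀ _ hyx
    have hz : Has G (x + μ • y) (f x hx - f x hx y • s • f y hy) := by
      have h' := ((hf y hy).smul_right s).conj_tv (hf x hx)
      rwa [LinearMap.smul_apply, smul_eq_mul, hs] at h'
    have hz0 : x + μ • y ≠ 0 := fun e => hxy (by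
      have h' := congrArg (f y hy) e
      rw [map_add, map_smul, (hf y hy).1, smul_zero, add_zero, map_zero] at h'
      exact absurd h' hyx)
    have hφz : φ₀ (x + μ • y) = 0 := by simp [μ, div_mul_cancel₀ _ hy']
    have hpa : Perp G a (x + μ • y) := fun φ hφ => by
      obtain ⟨c, rfl⟩ := uniq a _ _ ha hφ₀ hφ₀0 hφ
      simp [hφz]
    have h2 := perp_symm hG (pt_all hG ha) (pt_all hG hz0) hpa _ hz
    simp only [LinearMap.sub_apply, LinearMap.smul_apply, smul_eq_mul, hfa] at h2
    have h3 : f x hx y * s * φ₀ y = φ₀ x := by linear_combination h2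
    have h4 : f x hx y * s = -μ := by
      simp only [μ]; field_simp; linear_combination h3
    have h5 : (f x hx y + f y hy x) * s = 0 := by linear_combination h4 + hs
    exact eq_neg_of_add_eq_zero_left ((mul_eq_zero.1 h5).resolve_right (div_ne_zero hμ hyx))
  have hspan : Submodule.span (ZMod p) D = ⊤ := by
    obtain ⟨x₀, hx₀⟩ := exists_ne_zero_of_dual hφ₀0
    refine Submodule.eq_top_iff'.2 fun y => ?_
    by_cases hy : φ₀ y = 0
    · have h' : y + x₀ ∈ D := by simpa [D, hy] using hx₀
      simpa using Submodule.sub_mem _ (Submodule.subset_span h') (Submodule.subset_span (s := D) hx₀)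
    · exact Submodule.subset_span hy
  obtain ⟨b, hbD, hbspan, hbli⟩ := exists_linearIndependent (ZMod p) D
  let bas : Basis b (ZMod p) W := Basis.mk hbli (by rw [Subtype.range_coe, hbspan, hspan])
  let B : W →ₗ[ZMod p] Dual (ZMod p) W := bas.constr (ZMod p) fun e => f e.1 (hbD e.2)
  have hB1 : ∀ x z (hz : z ∈ D), B x z = -f z hz x := by
    intro x z hz
    have : (LinearMap.applyₗ z ∘ₗ B) = -f z hz := bas.ext fun e => by
      rw [LinearMap.comp_apply, Basis.constr_basis, Basis.mk_apply]
      exact anti e.1 z (hbD e.2) hz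
    exact LinearMap.congr_fun this x
  have hB2 : ∀ x (hx : x ∈ D), B x = f x hx := by
    intro x hx
    refine LinearMap.ext_on hspan fun z hz => ?_
    rw [hB1 x z hz, anti x z hx hz]
  have skew : ∀ x y, B x y = -B y x := by
    intro x y
    have hxy : ∀ z ∈ D, B x z = -B z x := fun z hz => by rw [hB1 x z hz, hB2 z hz]
    have : B x = -(LinearMap.applyₗ x ∘ₗ B) := LinearMap.ext_on hspan fun z hz => hxy z hz
    exact LinearMap.congr_fun this y
  have h2 : (2 : ZMod p) ≠ 0 := by
    intro e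
    have := (ZMod.natCast_eq_zero_iff 2 p).1 (by exact_mod_cast e)
    have := Nat.le_of_dvd (by norm_num) this
    have := hG.three
    omega
  have alt : ∀ x, B x x = 0 := fun x => by
    have h' := skew x x
    exact (mul_eq_zero.1 (show (2 : ZMod p) * B x x = 0 by linear_combination h')).resolve_left h2
  have nd : ∀ x, B x = 0 → x = 0 := by
    intro x hx
    by_contra h0
    obtain ⟨φ, hφ, hφ0⟩ := exists_axis hG h0
    refine hφ0 (LinearMap.ext_on hspan fun z hz => ?_)
    exact perp_symm hG (pt_all hG (hD0 z hz)) (pt_all hG h0) ((perp_iff z hz x).2 (by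
      rw [← neg_eq_zero, ← hB1 x z hz, hx, LinearMap.zero_apply])) φ hφ
  have hall : ∀ x, Has G x (B x) := by
    intro x
    by_cases hx : x ∈ D
    · rw [hB2 x hx]; exact hf x hx
    rcases eq_or_ne x 0 with rfl | h0
    · exact has_zero_left G _
    obtain ⟨c, hc, hca, hcx⟩ := exists_common hG (pt_all hG ha) (pt_all hG h0)
    have hcD : c ∈ D := fun e => hca (perp_symm hG (pt_all hG ha) hc fun φ hφ => by
      obtain ⟨r, rfl⟩ := uniq a _ _ ha hφ₀ hφ₀0 hφ
      simp [e])
    have hxc : x + c ∈ D := by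
      have hφx : φ₀ x = 0 := not_not.1 hx
      simpa [D, hφx] using hcD
    have hBcx : B c x ≠ 0 := by
      rw [hB2 c hcD]; exact fun e => hcx ((perp_iff c hcD x).2 e)
    have h' := ((hf c hcD).smul_right (-(B c x)⁻¹)).conj_tv (hf (x + c) hxc)
    rw [← hB2 c hcD, ← hB2 (x + c) hxc] at h'
    have e1 : (-(B c x)⁻¹ • B c) (x + c) = -1 := by
      rw [LinearMap.smul_apply, map_add, alt c, add_zero, smul_eq_mul, neg_mul,
        inv_mul_cancel₀ hBcx]
    refine h'.congr (by rw [e1, neg_one_smul, add_neg_cancel_right]) ?_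
    have e2 : B (x + c) c = -B c x := by
      rw [map_add, LinearMap.add_apply, alt c, add_zero, skew x c]
    rw [e2, smul_smul, neg_mul_neg, mul_inv_cancel₀ hBcx, one_smul, map_add, add_sub_cancel_right]
  refine ⟨B, alt, nd, hall, fun x φ hx hφ => ?_⟩
  exact uniq x _ _ hx (hall x) (fun e => hx (nd x e)) hφ

include hG in
theorem dichotomy : IsFull G ∨ ∃ B, IsSympType G B := by
  obtain ⟨a, _, _, ha, _⟩ := hG.exists_pair
  by_cases h : 2 ≤ finrank (ZMod p) (axes G a)
  · exact Or.inl (isFull_of_two hG ha h)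
  · exact Or.inr (exists_sympType hG ha fun x hx => by
      rw [finrank_axes_eq hG hx ha]; omega)

end CfsgLib.McL
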