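import Cfsg.Agent.McLaughlin.Dichotomy

/-!
# Transvections generate the special linear group and the symplectic group
-/

set_option autoImplicit false

namespace CfsgLib.McL

open Module

variable {p : ℕ} [Fact p.Prime] {W : Type*} [AddCommGroup W] [Module (ZMod p) W] [Finite W]
  {G : Subgroup (W ≃ₗ[ZMod p] W)}

/-- The fixed space. -/
def fix (g : W ≃ₗ[ZMod p] W) : Submodule (ZMod p) W where
  carrier := {x | g x = x}
  zero_mem' := map_zero g
  add_mem' {a b} ha hb := show g (a + b) = a + b by rw [map_add, ha, hb]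
  smul_mem' c x hx := show g (c • x) = c • x by rw [map_smul, hx]

lemma mem_fix {g : W ≃ₗ[ZMod p] W} {x : W} : x ∈ fix g ↔ g x = x := Iff.rfl

/-- Reduction: make one more vector fixed by elements of `G`. -/
lemma mem_of_reduce {P : (W ≃ₗ[ZMod p] W) → Prop}
    (h : ∀ g, P g → g ∉ G → ∃ k ∈ G, P (k * g) ∧ fix g < fix (k * g)) :
    ∀ g, P g → g ∈ G := by
  suffices ∀ n, ∀ g, P g → finrank (ZMod p) W ≤ finrank (ZMod p) (fix g) + n → g ∈ G from
    fun g hg => this _ g hg (Nat.le_add_left _ _)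
  intro n
  induction n with
  | zero =>
    intro g hg hn
    by_contra hng
    obtain ⟨k, _, _, hlt⟩ := h g hg hng
    have h1 := Submodule.finrank_lt_finrank_of_lt hlt
    have h2 := Submodule.finrank_le (fix (k * g))
    omega
  | succ n ih =>
    intro g hg hn
    by_contra hng
    obtain ⟨k, hk, hP, hlt⟩ := h g hg hng
    have h1 := Submodule.finrank_lt_finrank_of_lt hlt
    have := ih (k * g) hP (by omega)
    exact hng (by simpa using G.mul_mem (G.inv_mem hk) this)

lemma notMem_union {S T : Submodule (ZMod p) W} (hS : S ≠ ⊤) (hT : T ≠ ⊤) : ∃ v, v ∉ S ∧ v ∉ T := by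
  by_contra h
  push Not at h
  obtain ⟨a, ha⟩ := not_forall.1 (fun hh => hS (Submodule.eq_top_iff'.2 hh))
  obtain ⟨b, hb⟩ := not_forall.1 (fun hh => hT (Submodule.eq_top_iff'.2 hh))
  have hbS : b ∈ S := by_contra fun hbS => hb (h b hbS)
  exact hb (by simpa using T.sub_mem (h (a + b) fun hc => ha (by simpa using S.sub_mem hc hbS)) (h a ha))

lemma exists_dual_eq {S : Submodule (ZMod p) W} {v : W} (h : v ∉ S) :
    ∃ ω : Dual (ZMod p) W, (∀ s ∈ S, ω s = 0) ∧ ω v = 1 := by
  obtain ⟨f, hfv, hf⟩ := Submodule.exists_dual_map_eq_bot_of_notMem h inferInstance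
  refine ⟨(f v)⁻¹ • f, fun s hs => ?_, by simp [inv_mul_cancel₀ hfv]⟩
  have : f s ∈ S.map f := Submodule.mem_map_of_mem hs
  rw [hf, Submodule.mem_bot] at this
  simp [this]

theorem mem_of_isFull (hG : IsFull G) {g : W ≃ₗ[ZMod p] W}
    (hg : LinearMap.det (g : W →ₗ[ZMod p] W) = 1) : g ∈ G := by
  refine mem_of_reduce (P := fun g => LinearMap.det (g : W →ₗ[ZMod p] W) = 1) (fun g hg hng => ?_) g hg
  have hdetmul : ∀ (k : W ≃ₗ[ZMod p] W) (a : W) (φ : Dual (ZMod p) W) (h : φ a = 0),
      k = LinearEquiv.transvection h → LinearMap.det (k : W →ₗ[ZMod p] W) = 1 := by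
    intro k a φ h e
    subst e
    rw [← LinearEquiv.coe_det, LinearEquiv.transvection.det_eq_one h, Units.val_one]
  have hg1 : g ≠ 1 := fun e => hng (e ▸ G.one_mem)
  obtain ⟨v, hv⟩ : ∃ v, g v ≠ v := by
    by_contra hc
    push Not at hc
    exact hg1 (LinearEquiv.ext hc)
  let S₁ : Submodule (ZMod p) W := fix g ⊔ Submodule.span (ZMod p) {g v}
  let S₂ : Submodule (ZMod p) W := fix g ⊔ Submodule.span (ZMod p) {v}
  by_cases htop : S₂ = ⊤
  · -- `g` fixes a hyperplane
    obtain ⟨ω, hω, hωv⟩ := exists_dual_eq (S := fix g) (v := v) hv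
    have heq : ∀ x, g x = x + ω x • (g v - v) := by
      intro x
      obtain ⟨y, hy, z, hz, rfl⟩ := Submodule.mem_sup.1 (htop ▸ Submodule.mem_top : x ∈ S₂)
      obtain ⟨r, rfl⟩ := Submodule.mem_span_singleton.1 hz
      rw [map_add, mem_fix.1 hy, map_smul, map_add, hω y hy, map_smul, hωv, zero_add, smul_eq_mul,
        mul_one, smul_sub]
      abel
    have e : (g : W →ₗ[ZMod p] W) = LinearMap.transvection ω (g v - v) :=
      LinearMap.ext fun x => heq x
    rw [e, LinearMap.transvection.det, add_eq_left] at hg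
    obtain ⟨h', hm⟩ := hG _ ω hg
    exact absurd ((show g = LinearEquiv.transvection h' from LinearEquiv.ext heq) ▸ hm) hng
  have hgv : g v ∉ fix g := fun h => hv (g.injective (mem_fix.1 h))
  have htop1 : S₁ ≠ ⊤ := by
    intro e
    apply htop
    refine Submodule.eq_top_of_finrank_eq (le_antisymm (Submodule.finrank_le _) ?_)
    have hv' : v ∉ fix g := hv
    have h1 : finrank (ZMod p) (fix g) < finrank (ZMod p) S₂ :=
      Submodule.finrank_lt_finrank_of_lt (lt_of_le_not_ge le_sup_left fun hh =>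
        hv' (hh (Submodule.mem_sup_right (Submodule.mem_span_singleton_self v))))
    have h2 := Submodule.finrank_add_le_finrank_add_finrank (fix g) (Submodule.span (ZMod p) {g v})
    have h3 : finrank (ZMod p) S₁ = finrank (ZMod p) W := by rw [e, finrank_top]
    rw [finrank_span_singleton (fun e' : g v = 0 => hgv (e' ▸ (fix g).zero_mem))] at h2
    change finrank (ZMod p) S₁ ≤ _ at h2
    omega
  obtain ⟨u, hu1, hu2⟩ := notMem_union htop1 htop
  have step : ∀ x y : W, x ∉ fix g → y ∉ fix g ⊔ Submodule.span (ZMod p) {x} →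
      ∃ k ∈ G, k x = y ∧ (∀ z ∈ fix g, k z = z) ∧ LinearMap.det (k : W →ₗ[ZMod p] W) = 1 := by
    intro x y hx hy
    have hxd : x ∉ fix g ⊔ Submodule.span (ZMod p) {y - x} := by
      intro hc
      obtain ⟨f, hf, z, hz, e⟩ := Submodule.mem_sup.1 hc
      obtain ⟨r, rfl⟩ := Submodule.mem_span_singleton.1 hz
      rcases eq_or_ne r 0 with rfl | hr
      · exact hx (by rw [← e, zero_smul, add_zero]; exact hf)
      · apply hy
        have : y = r⁻¹ • (x - f) + x := by
          rw [show x - f = r • (y - x) from (eq_sub_of_add_eq' e).symm, smul_smul, inv_mul_cancel₀ hr,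
            one_smul, sub_add_cancel]
        rw [this]
        exact Submodule.add_mem _ (Submodule.smul_mem _ _ (Submodule.sub_mem _
          (Submodule.mem_sup_right (Submodule.mem_span_singleton_self x)) (Submodule.mem_sup_left hf)))
          (Submodule.mem_sup_right (Submodule.mem_span_singleton_self x))
    obtain ⟨ω, hω, hωx⟩ := exists_dual_eq hxd
    obtain ⟨h', hm⟩ := hG (y - x) ω (hω _ (Submodule.mem_sup_right (Submodule.mem_span_singleton_self _)))
    refine ⟨_, hm, ?_, fun z hz => ?_, hdetmul _ _ _ h' rfl⟩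
    · rw [tv_apply, hωx, one_smul, add_sub_cancel]
    · rw [tv_apply, hω z (Submodule.mem_sup_left hz), zero_smul, add_zero]
  have hu0 : u ∉ fix g := fun h => hu1 (Submodule.mem_sup_left h)
  have hvu : v ∉ fix g ⊔ Submodule.span (ZMod p) {u} := by
    intro hc
    obtain ⟨f, hf, z, hz, e⟩ := Submodule.mem_sup.1 hc
    obtain ⟨r, rfl⟩ := Submodule.mem_span_singleton.1 hz
    rcases eq_or_ne r 0 with rfl | hr
    · exact hv (mem_fix.1 (by rw [← e, zero_smul, add_zero]; exact hf))
    · apply hu2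
      rw [show u = r⁻¹ • (v - f) by rw [← e, add_sub_cancel_left, smul_smul, inv_mul_cancel₀ hr, one_smul]]
      exact Submodule.smul_mem _ _ (Submodule.sub_mem _
        (Submodule.mem_sup_right (Submodule.mem_span_singleton_self v)) (Submodule.mem_sup_left hf))
  obtain ⟨k1, hk1, e1, f1, d1⟩ := step (g v) u hgv hu1
  obtain ⟨k2, hk2, e2, f2, d2⟩ := step u v hu0 hvu
  refine ⟨k2 * k1, G.mul_mem hk2 hk1, ?_, ?_⟩
  · rw [LinearEquiv.coe_toLinearMap_mul, LinearEquiv.coe_toLinearMap_mul, map_mul, map_mul, d1, d2, hg,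
      one_mul, one_mul]
  · refine lt_of_le_not_ge (fun z hz => ?_) fun h => hv (mem_fix.1 (h ?_))
    · rw [mem_fix, LinearEquiv.mul_apply, mem_fix.1 hz, LinearEquiv.mul_apply, f1 z hz, f2 z hz]
    · rw [mem_fix, LinearEquiv.mul_apply, LinearEquiv.mul_apply, e1, e2]

theorem mem_of_isSympType {B : W →ₗ[ZMod p] Dual (ZMod p) W} (hG : IsSympType G B)
    {g : W ≃ₗ[ZMod p] W} (hg : ∀ x y, B (g x) (g y) = B x y) : g ∈ G := by
  obtain ⟨alt, nd, hall, _⟩ := hG
  have skew : ∀ x y, B x y = -B y x := by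
    intro x y
    have h := alt (x + y)
    simp only [map_add, LinearMap.add_apply, alt] at h
    linear_combination h
  refine mem_of_reduce (P := fun g => ∀ x y, B (g x) (g y) = B x y) (fun g hg hng => ?_) g hg
  obtain ⟨v, hv⟩ : ∃ v, g v ≠ v := by
    by_contra hc
    push Not at hc
    exact hng ((show g = 1 from LinearEquiv.ext hc) ▸ G.one_mem)
  -- a transvection moving `x` to `y`
  have step : ∀ x y : W, B x y ≠ 0 → (∀ z ∈ fix g, B (y - x) z = 0) →
      ∃ k ∈ G, k x = y ∧ (∀ z ∈ fix g, k z = z) ∧ ∀ a b, B (k a) (k b) = B a b := by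
    intro x y hxy hz
    have hc : B (y - x) x ≠ 0 := by
      rw [map_sub, LinearMap.sub_apply, alt, sub_zero, skew y x]; exact neg_ne_zero.2 hxy
    obtain ⟨h', hm⟩ := (hall (y - x)).smul_right (B (y - x) x)⁻¹
    refine ⟨_, hm, ?_, fun z hzf => ?_, fun a b => ?_⟩
    · rw [tv_apply, LinearMap.smul_apply, smul_eq_mul, inv_mul_cancel₀ hc, one_smul, add_sub_cancel]
    · rw [tv_apply, LinearMap.smul_apply, hz z hzf, smul_zero, zero_smul, add_zero]
    · simp only [tv_apply, LinearMap.smul_apply, smul_eq_mul]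
      generalize y - x = d
      simp only [map_add, map_smul, LinearMap.add_apply, LinearMap.smul_apply, smul_eq_mul, alt d,
        skew a d]
      ring
  have hperp : ∀ w z, z ∈ fix g → B (g w - w) z = 0 := fun w z hz => by
    have h := hg w z
    rw [mem_fix.1 hz] at h
    rw [map_sub, LinearMap.sub_apply, h, sub_self]
  have finish : ∀ k ∈ G, (∀ a b, B (k a) (k b) = B a b) → (∀ z ∈ fix g, k z = z) → k (g v) = v →
      ∃ k ∈ G, (∀ x y, B ((k * g) x) ((k * g) y) = B x y) ∧ fix g < fix (k * g) := by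
    intro k hk hB hf he
    refine ⟨k, hk, fun x y => (hB _ _).trans (hg x y), lt_of_le_not_ge (fun z hz => ?_) fun h =>
      hv (mem_fix.1 (h ?_))⟩
    · rw [mem_fix, LinearEquiv.mul_apply, mem_fix.1 hz, hf z hz]
    · rw [mem_fix, LinearEquiv.mul_apply, he]
  by_cases hvg : B (g v) v ≠ 0
  · obtain ⟨k, hk, e, hf, hB⟩ := step (g v) v hvg fun z hz => by
      rw [← neg_sub, map_neg, LinearMap.neg_apply, hperp v z hz, neg_zero]
    exact finish k hk hB hf e
  push Not at hvg
  have hne : ∀ x : W, x ≠ 0 → ∃ y, B x y ≠ 0 := fun x hx => by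
    by_contra hc
    push Not at hc
    exact hx (nd x (LinearMap.ext hc))
  -- two functionals which are not identically zero
  obtain ⟨d, hdeq⟩ : ∃ d : W →ₗ[ZMod p] W, d = (g : W →ₗ[ZMod p] W) - LinearMap.id := ⟨_, rfl⟩
  have hd : ∀ w, d w = g w - w := fun w => by rw [hdeq]; rfl
  have h1 : LinearMap.ker ((B v) ∘ₗ d) ≠ ⊤ := by
    intro e
    obtain ⟨y, hy⟩ := hne (g v - v) (sub_ne_zero.2 hv)
    obtain ⟨w, rfl⟩ := g.surjective y
    have h0 := LinearMap.mem_ker.1 (e ▸ Submodule.mem_top : w ∈ LinearMap.ker ((B v) ∘ₗ d))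
    rw [LinearMap.comp_apply, hd, map_sub] at h0
    apply hy
    rw [map_sub, LinearMap.sub_apply, hg v w]
    linear_combination -h0
  have h2 : LinearMap.ker ((B (g v)) ∘ₗ d) ≠ ⊤ := by
    intro e
    obtain ⟨w, hw⟩ := hne (g v - v) (sub_ne_zero.2 hv)
    have h0 := LinearMap.mem_ker.1 (e ▸ Submodule.mem_top : w ∈ LinearMap.ker ((B (g v)) ∘ₗ d))
    rw [LinearMap.comp_apply, hd, map_sub, hg] at h0
    apply hw
    rw [map_sub, LinearMap.sub_apply]
    linear_combination -h0
  obtain ⟨w, hw1, hw2⟩ := notMem_union h1 h2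
  simp only [LinearMap.mem_ker, LinearMap.comp_apply, hd] at hw1 hw2
  obtain ⟨k1, hk1, e1, f1, B1⟩ := step (g v) (v + (g w - w))
    (by rw [map_add, hvg, zero_add]; exact hw2) (fun z hz => by
      rw [show v + (g w - w) - g v = (g w - w) - (g v - v) by abel, map_sub, LinearMap.sub_apply,
        hperp w z hz, hperp v z hz, sub_zero])
  obtain ⟨k2, hk2, e2, f2, B2⟩ := step (v + (g w - w)) v
    (by rw [map_add, LinearMap.add_apply, alt v, zero_add, skew]; exact neg_ne_zero.2 hw1) (fun z hz => by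
      rw [show v - (v + (g w - w)) = -(g w - w) by abel, map_neg, LinearMap.neg_apply, hperp w z hz,
        neg_zero])
  exact finish (k2 * k1) (G.mul_mem hk2 hk1) (fun a b => (B2 _ _).trans (B1 a b))
    (fun z hz => by rw [LinearEquiv.mul_apply, f1 z hz, f2 z hz]) (by rw [LinearEquiv.mul_apply, e1, e2])

end CfsgLib.McL
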