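import Cfsg.Agent.McLaughlin.Tv

/-!
# Irreducible transvection groups: either every incident pair or an alternating form
-/

set_option autoImplicit false

namespace CfsgLib.McL

open Module

variable {p : ℕ} [Fact p.Prime] {W : Type*} [AddCommGroup W] [Module (ZMod p) W]

/-- The axes of the transvections of `G` with centre `a`. -/
def axes (G : Subgroup (W ≃ₗ[ZMod p] W)) (a : W) : Submodule (ZMod p) (Dual (ZMod p) W) where
  carrier := {φ | Has G a φ}
  zero_mem' := has_zero_right G a
  add_mem' h h' := h.add_right h'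
  smul_mem' c _ h := h.smul_right c

lemma mem_axes {G : Subgroup (W ≃ₗ[ZMod p] W)} {a : W} {φ : Dual (ZMod p) W} :
    φ ∈ axes G a ↔ Has G a φ := Iff.rfl

/-- `a` is a centre. -/
def Pt (G : Subgroup (W ≃ₗ[ZMod p] W)) (a : W) : Prop := a ≠ 0 ∧ axes G a ≠ ⊥

/-- Every axis at `a` vanishes at `b`. -/
def Perp (G : Subgroup (W ≃ₗ[ZMod p] W)) (a b : W) : Prop := ∀ φ ∈ axes G a, φ b = 0

/-- The common kernel of the axes at `a`. -/
def ker (G : Subgroup (W ≃ₗ[ZMod p] W)) (a : W) : Submodule (ZMod p) W where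
  carrier := {b | Perp G a b}
  zero_mem' := fun φ _ => map_zero φ
  add_mem' hx hy := fun φ hφ => by rw [map_add, hx φ hφ, hy φ hφ, add_zero]
  smul_mem' c _ hx := fun φ hφ => by rw [map_smul, hx φ hφ, smul_zero]

lemma mem_ker {G : Subgroup (W ≃ₗ[ZMod p] W)} {a b : W} : b ∈ ker G a ↔ Perp G a b := Iff.rfl

/-- There is no invariant subspace other than the trivial ones. -/
structure Irr (G : Subgroup (W ≃ₗ[ZMod p] W)) : Prop where
  three : 3 ≤ p
  exists_pair : ∃ a φ, Has G a φ ∧ a ≠ 0 ∧ φ ≠ 0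
  irr : ∀ X : Submodule (ZMod p) W,
    (∀ a φ, Has G a φ → a ≠ 0 → φ ≠ 0 → a ∈ X ∨ ∀ x ∈ X, φ x = 0) → X = ⊥ ∨ X = ⊤

variable {G : Subgroup (W ≃ₗ[ZMod p] W)} (hG : Irr G)

lemma exists_axis_of_not_perp {a b : W} (h : ¬ Perp G a b) : ∃ φ, Has G a φ ∧ φ b = 1 := by
  simp only [Perp] at h
  push Not at h
  obtain ⟨φ, hφ, hb⟩ := h
  exact ⟨(φ b)⁻¹ • φ, (mem_axes.1 hφ).smul_right _, by simp [inv_mul_cancel₀ hb]⟩

lemma perp_smul_right {a b : W} (c : ZMod p) (h : Perp G a b) : Perp G a (c • b) :=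
  (ker G a).smul_mem c h

lemma pt_of_not_perp {a b : W} (h : ¬ Perp G a b) (ha : a ≠ 0) : Pt G a :=
  ⟨ha, fun e => h fun φ hφ => by rw [e, Submodule.mem_bot] at hφ; simp [hφ]⟩

lemma axes_le_of_perp {a b : W} {χ : Dual (ZMod p) W} (hχ : Has G a χ) (hb : χ b ≠ 0)
    (h : Perp G b a) : axes G b ≤ axes G a :=
  fun _ hψ => hχ.comm hψ hb (h _ hψ)

lemma finrank_axes_conj [Finite W] {g : W ≃ₗ[ZMod p] W} (hg : g ∈ G) (a : W) :
    finrank (ZMod p) (axes G (g a)) = finrank (ZMod p) (axes G a) := by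
  have key : ∀ (g : W ≃ₗ[ZMod p] W), g ∈ G → ∀ a, finrank (ZMod p) (axes G a) ≤
      finrank (ZMod p) (axes G (g a)) := by
    intro g hg a
    let f : axes G a →ₗ[ZMod p] axes G (g a) :=
      { toFun := fun φ => ⟨(φ : Dual (ZMod p) W) ∘ₗ (g⁻¹ : W ≃ₗ[ZMod p] W).toLinearMap,
          (mem_axes.1 φ.2).conj hg⟩
        map_add' := fun _ _ => rfl
        map_smul' := fun _ _ => rfl }
    refine LinearMap.finrank_le_finrank_of_injective (f := f) fun φ ψ e => Subtype.ext ?_
    refine LinearMap.ext fun x => ?_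
    have := LinearMap.congr_fun (congrArg Subtype.val e) (g x)
    change (φ : Dual (ZMod p) W) (g.symm (g x)) = (ψ : Dual (ZMod p) W) (g.symm (g x)) at this
    rwa [g.symm_apply_apply] at this
  refine le_antisymm ?_ (key g hg a)
  have h1 := key g⁻¹ (G.inv_mem hg) (g a)
  rwa [show (g⁻¹ : W ≃ₗ[ZMod p] W) (g a) = a from g.symm_apply_apply a] at h1

lemma exists_conj {a c : W} (h1 : ¬ Perp G a c) (h2 : ¬ Perp G c a) :
    ∃ g ∈ G, g c = a := by
  obtain ⟨φ, hφ, hc⟩ := exists_axis_of_not_perp h1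
  obtain ⟨χ, hχ, ha⟩ := exists_axis_of_not_perp h2
  refine ⟨(LinearEquiv.transvection hχ.1)⁻¹ * LinearEquiv.transvection hφ.1,
    G.mul_mem (G.inv_mem hχ.2) hφ.2, ?_⟩
  rw [LinearEquiv.mul_apply, tv_apply, hc, one_smul, tv_inv_apply, map_add, hχ.1, ha, zero_add,
    one_smul, add_sub_cancel_left]

include hG in
lemma perp_symm [Finite W] {a b : W} (ha : Pt G a) (hb : Pt G b) (h : Perp G a b) : Perp G b a := by
  classical
  have hex : ∃ m, ∃ c, Pt G c ∧ finrank (ZMod p) (axes G c) = m := ⟨_, a, ha, rfl⟩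
  obtain ⟨c, hc, hcm⟩ := Nat.find_spec hex
  have hmin : ∀ x, Pt G x → finrank (ZMod p) (axes G c) ≤ finrank (ZMod p) (axes G x) :=
    fun x hx => hcm ▸ Nat.find_min' hex ⟨x, hx, rfl⟩
  let Q : W → Prop := fun x => Pt G x ∧ finrank (ZMod p) (axes G x) = finrank (ZMod p) (axes G c)
  have mutl : ∀ u x, Q u → Pt G x → ¬ Perp G u x → ¬ Perp G x u := by
    intro u x hu hx hux hxu
    obtain ⟨χ, hχ, hx1⟩ := exists_axis_of_not_perp hux
    have hle := axes_le_of_perp hχ (by rw [hx1]; exact one_ne_zero) hxu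
    have heq : axes G x = axes G u :=
      Submodule.eq_of_le_of_finrank_le hle (hu.2 ▸ hmin x hx)
    have hχx : Has G x χ := mem_axes.1 (heq ▸ (mem_axes.2 hχ))
    rw [hχx.1] at hx1
    exact zero_ne_one hx1
  have close : ∀ u x, Q u → Pt G x → ¬ Perp G u x → Q x := by
    intro u x hu hx hux
    obtain ⟨g, hg, e⟩ := exists_conj (mutl u x hu hx hux) hux
    exact ⟨hx, by rw [← e, finrank_axes_conj hg, hu.2]⟩
  have allQ : ∀ x, Pt G x → Q x := by
    intro x hx
    by_contra hnQ
    let X : Submodule (ZMod p) W := ⨅ u : {u // Q u}, ker G u.1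
    have hxX : x ∈ X := Submodule.mem_iInf _ |>.2 fun u =>
      by_contra fun hn => hnQ (close u.1 x u.2 hx hn)
    rcases hG.irr X (fun e θ he he0 hθ0 => by
        have hpe : Pt G e := ⟨he0, fun e' => hθ0 (by simpa [e'] using mem_axes.2 he)⟩
        by_cases hQe : Q e
        · exact Or.inr fun y hy => Submodule.mem_iInf _ |>.1 hy ⟨e, hQe⟩ θ he
        · exact Or.inl (Submodule.mem_iInf _ |>.2 fun u =>
            by_contra fun hn => hQe (close u.1 e u.2 hpe hn))) with hX | hX
    · rw [hX, Submodule.mem_bot] at hxX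
      exact hx.1 hxX
    · apply hc.2
      rw [Submodule.eq_bot_iff]
      intro φ hφ
      refine LinearMap.ext fun y => ?_
      have : y ∈ X := hX ▸ Submodule.mem_top
      exact Submodule.mem_iInf _ |>.1 this ⟨c, hc, rfl⟩ φ hφ
  by_contra hn
  exact mutl b a (allQ b hb) ha hn h

include hG in
lemma exists_not_perp [Finite W] {a : W} (ha : Pt G a) : ∃ b, Pt G b ∧ ¬ Perp G a b := by
  by_contra hc
  push Not at hc
  rcases hG.irr (ker G a) (fun e θ he he0 hθ0 => Or.inl (hc e ⟨he0, fun e' => hθ0 (by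
    simpa [e'] using mem_axes.2 he)⟩)) with h | h
  · have := (hc a ha)
    rw [← mem_ker, h, Submodule.mem_bot] at this
    exact ha.1 this
  · apply ha.2
    rw [Submodule.eq_bot_iff]
    intro φ hφ
    refine LinearMap.ext fun y => ?_
    exact mem_ker.1 (h ▸ Submodule.mem_top : y ∈ ker G a) φ hφ

include hG in
/-- Two centres have a common neighbour. -/
lemma exists_common [Finite W] {a b : W} (ha : Pt G a) (hb : Pt G b) :
    ∃ c, Pt G c ∧ ¬ Perp G c a ∧ ¬ Perp G c b := by
  let Reach : W → Prop := fun x => Pt G x ∧ ∃ c, Pt G c ∧ ¬ Perp G c a ∧ ¬ Perp G c x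
  have step : ∀ x y, Reach x → Pt G y → ¬ Perp G x y → Reach y := by
    rintro x y ⟨hx, c, hc, hca, hcx⟩ hy hxy
    have hxc : ¬ Perp G x c := fun h => hcx (perp_symm hG hx hc h)
    obtain ⟨φ, hφ, hφc⟩ := exists_axis_of_not_perp hxc
    obtain ⟨ψ, hψ, hψc⟩ := exists_axis_of_not_perp (fun h => hca (perp_symm hG ha hc h))
    obtain ⟨θ, hθ, hθx⟩ := exists_axis_of_not_perp (fun h => hxy (perp_symm hG hy hx h))
    obtain ⟨μ, h1, h2⟩ := exists_scalar hG.three (a := ψ c) (b := ψ x) (c := θ c) (d := θ x)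
      (Or.inl (by rw [hψc]; exact one_ne_zero)) (Or.inr (by rw [hθx]; exact one_ne_zero))
    have hz0 : c + μ • x ≠ 0 := fun e => h1 (by
      have := congrArg ψ e; simpa [map_add] using this)
    have hz : Pt G (c + μ • x) := by
      obtain ⟨χ, hχ, hχx⟩ := exists_axis_of_not_perp hcx
      have hc' : Has G (c + μ • x) (χ - (μ * χ x) • φ) := by
        have := (hφ.smul_left μ).conj_tv hχ
        rw [hφc, one_smul, map_smul, smul_eq_mul] at this
        exact this
      refine ⟨hz0, fun e => ?_⟩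
      have h0 := mem_axes.2 hc'
      rw [e, Submodule.mem_bot] at h0
      have := LinearMap.congr_fun h0 x
      simp [hχx, hφ.1] at this
    refine ⟨hy, c + μ • x, hz, fun h => h1 ?_, fun h => h2 ?_⟩
    · simpa [map_add] using perp_symm hG hz ha h ψ hψ
    · simpa [map_add] using perp_symm hG hz hy h θ hθ
  obtain ⟨d, hd, had⟩ := exists_not_perp hG ha
  have hRa : Reach a :=
    ⟨ha, d, hd, fun h => had (perp_symm hG hd ha h), fun h => had (perp_symm hG hd ha h)⟩
  suffices Reach b from this.2.imp fun c hc => hc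
  by_contra hnb
  rcases hG.irr (Submodule.span (ZMod p) {x | Reach x}) (fun e θ he he0 hθ0 => by
    by_cases h : ∃ x, Reach x ∧ θ x ≠ 0
    · obtain ⟨x, hx, hθx⟩ := h
      have hpe : Pt G e := ⟨he0, fun e' => hθ0 (by simpa [e'] using mem_axes.2 he)⟩
      exact Or.inl (Submodule.subset_span (step x e hx hpe fun hp =>
        hθx (perp_symm hG hx.1 hpe hp θ he)))
    · push Not at h
      refine Or.inr fun y hy => ?_
      have : Submodule.span (ZMod p) {x | Reach x} ≤ LinearMap.ker θ :=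
        Submodule.span_le.2 fun x hx => h x hx
      exact this hy) with h | h
  · have hmem : a ∈ Submodule.span (ZMod p) {x | Reach x} := Submodule.subset_span hRa
    rw [h, Submodule.mem_bot] at hmem
    exact ha.1 hmem
  · obtain ⟨ψ, hψ, hψ0⟩ : ∃ ψ, Has G b ψ ∧ ψ ≠ 0 := by
      obtain ⟨ψ, hψ, h0⟩ := Submodule.exists_mem_ne_zero_of_ne_bot hb.2
      exact ⟨ψ, hψ, h0⟩
    obtain ⟨x, hx, hψx⟩ : ∃ x, Reach x ∧ ψ x ≠ 0 := by
      by_contra hc
      push Not at hc
      refine hψ0 (LinearMap.ext fun y => ?_)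
      have : Submodule.span (ZMod p) {x | Reach x} ≤ LinearMap.ker ψ :=
        Submodule.span_le.2 fun x hx => hc x hx
      exact this (h ▸ Submodule.mem_top)
    exact hnb (step x b hx hb fun hp => hψx (perp_symm hG hx.1 hb hp ψ hψ))

/-- The line through two non-perpendicular centres consists of centres. -/
lemma pt_line {a b : W} {ω : Dual (ZMod p) W} (hω : Has G b ω) (hωa : ω a ≠ 0) (ha : Pt G a)
    (μ : ZMod p) (h0 : a + μ • b ≠ 0) : Pt G (a + μ • b) := by
  obtain ⟨φ, hφ, hφ0⟩ := Submodule.exists_mem_ne_zero_of_ne_bot ha.2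
  have hc : Has G (a + μ • b) (φ - ((μ * (ω a)⁻¹) * φ b) • ω) := by
    have h2 := (hω.smul_left (μ * (ω a)⁻¹)).conj_tv (mem_axes.1 hφ)
    rw [map_smul, smul_eq_mul, smul_smul] at h2
    refine h2.congr ?_ rfl
    congr 2
    field_simp
  refine ⟨h0, fun e => hφ0 ?_⟩
  have h := mem_axes.2 hc
  rw [e, Submodule.mem_bot, sub_eq_zero] at h
  have h' := LinearMap.congr_fun h b
  simp [hω.1] at h'
  rw [h, h']
  simp

include hG in
lemma pt_all [Finite W] {a : W} (h : a ≠ 0) : Pt G a := by
  classical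
  -- sums of two centres seen by a common neighbour
  have sum : ∀ a b c, Pt G a → Pt G b → Pt G c → ¬ Perp G c a → ¬ Perp G c b → ¬ Perp G c (a + b) →
      a + b ≠ 0 → Pt G (a + b) := by
    intro a b c ha hb hc hca hcb hcab hab
    obtain ⟨φ, hφ, hφc⟩ := exists_axis_of_not_perp fun h' => hca (perp_symm hG ha hc h')
    by_cases hφb : φ b ≠ 0
    · have := pt_line (a := b) (b := a) hφ hφb hb 1 (by rwa [one_smul, add_comm])
      rwa [one_smul, add_comm] at this
    push Not at hφb
    have hbc : ¬ Perp G b c := fun h' => hcb (perp_symm hG hb hc h')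
    obtain ⟨ω, hω, hωab⟩ := exists_axis_of_not_perp hcab
    obtain ⟨ψ, hψ, hψc⟩ := exists_axis_of_not_perp hbc
    -- the point `b + c`
    have hd0 : b + c ≠ 0 := fun e => by
      have := congrArg φ e; simp [hφb, hφc] at this
    have hd : Pt G (b + c) := by
      have := pt_line (a := c) (b := b) hψ (by rw [hψc]; exact one_ne_zero) hc 1
        (by rwa [one_smul, add_comm])
      rwa [one_smul, add_comm] at this
    have hx0 : b + c + a ≠ 0 := fun e => by
      have := congrArg φ e; simp [hφb, hφc, hφ.1] at this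
    have hx : Pt G (b + c + a) := by
      have := pt_line (a := b + c) (b := a) hφ (by simp [hφb, hφc]) hd 1 (by rwa [one_smul])
      rwa [one_smul] at this
    have hωx : ω (b + c + a) ≠ 0 := by
      rw [show b + c + a = (a + b) + c by abel, map_add, hωab, hω.1, add_zero]; exact one_ne_zero
    have he : b + c + a + (-1 : ZMod p) • c = a + b := by
      rw [neg_one_smul]; abel
    have := pt_line (a := b + c + a) (b := c) hω hωx hx (-1) (he.symm ▸ hab)
    rwa [he] at this
  let S : Set W := {x | Pt G x ∨ x = 0}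
  have hsmul : ∀ (c : ZMod p) (x : W), x ∈ S → c • x ∈ S := by
    rintro c x (hx | rfl)
    · rcases eq_or_ne c 0 with rfl | hc
      · exact Or.inr (zero_smul _ x)
      · refine Or.inl ⟨smul_ne_zero hc hx.1, fun e => hx.2 ((Submodule.eq_bot_iff _).2 fun φ hφ => ?_)⟩
        have := mem_axes.2 ((mem_axes.1 hφ).smul_left c)
        rwa [e, Submodule.mem_bot] at this
    · exact Or.inr (smul_zero c)
  have hadd : ∀ a b, a ∈ S → b ∈ S → a + b ∈ S := by
    rintro a b (ha | rfl) (hb | rfl)
    rotate_left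
    · rw [add_zero]; exact Or.inl ha
    · rw [zero_add]; exact Or.inl hb
    · simp [S]
    by_cases hab : a + b = 0
    · exact Or.inr hab
    refine Or.inl ?_
    by_cases hperp : Perp G a b
    swap
    · obtain ⟨φ, hφ, hφb⟩ := exists_axis_of_not_perp hperp
      have := pt_line (a := b) (b := a) hφ (by rw [hφb]; exact one_ne_zero) hb 1
        (by rwa [one_smul, add_comm])
      rwa [one_smul, add_comm] at this
    obtain ⟨c, hc, hca, hcb⟩ := exists_common hG ha hb
    -- some axis does not vanish at the sum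
    obtain ⟨d, θ, hd, hθ, hθab⟩ : ∃ d θ, Pt G d ∧ Has G d θ ∧ θ (a + b) ≠ 0 := by
      by_contra hcon
      push Not at hcon
      rcases hG.irr (Submodule.span (ZMod p) {a + b}) (fun e η he he0 hη0 => Or.inr fun y hy => by
        obtain ⟨r, rfl⟩ := Submodule.mem_span_singleton.1 hy
        rw [map_smul, hcon e η ⟨he0, fun e' => hη0 (by simpa [e'] using mem_axes.2 he)⟩ he, smul_zero])
        with hX | hX
      · exact hab ((Submodule.mem_bot _).1 (hX ▸ Submodule.mem_span_singleton_self _))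
      · obtain ⟨e, η, he, he0, hη0⟩ := hG.exists_pair
        obtain ⟨y, hy⟩ := exists_ne_zero_of_dual hη0
        obtain ⟨r, rfl⟩ := Submodule.mem_span_singleton.1
          (hX ▸ Submodule.mem_top : y ∈ Submodule.span (ZMod p) {a + b})
        exact hy (by
          rw [map_smul, hcon e η ⟨he0, fun e' => hη0 (by simpa [e'] using mem_axes.2 he)⟩ he,
            smul_zero])
    wlog hθa : θ a ≠ 0 generalizing a b
    · rw [add_comm]
      have hθb : θ b ≠ 0 := fun e => hθab (by rw [map_add, e, not_not.1 hθa, add_zero])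
      exact this b a hb ha (by rwa [add_comm]) (perp_symm hG ha hb hperp) hcb hca
        (by rwa [add_comm]) hθb
    obtain ⟨φ, hφ, hφc⟩ := exists_axis_of_not_perp fun h' => hca (perp_symm hG ha hc h')
    obtain ⟨ψ, hψ, hψc⟩ := exists_axis_of_not_perp fun h' => hcb (perp_symm hG hb hc h')
    obtain ⟨φ', hφ', hφd⟩ := exists_axis_of_not_perp (G := G) (a := a) (b := d) fun h' =>
      hθa (perp_symm hG ha hd h' θ hθ)
    obtain ⟨ω, hω, hωa⟩ := exists_axis_of_not_perp hca
    let ν : ZMod p := 1 - ω d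
    let d' : W := d + ν • a
    let θ' : Dual (ZMod p) W := θ - (ν * θ a) • φ'
    have hθ' : Has G d' θ' := by
      have h' := (hφ'.smul_left ν).conj_tv hθ
      rw [hφd, one_smul, map_smul, smul_eq_mul] at h'
      exact h'
    have hφb : φ b = 0 := hperp φ hφ
    have hθ'ab : θ' (a + b) ≠ 0 := by
      have : φ' (a + b) = 0 := by rw [map_add, hφ'.1, hperp φ' hφ', add_zero]
      simp only [θ', LinearMap.sub_apply, LinearMap.smul_apply, this, smul_zero, sub_zero]
      exact hθab
    have hωd : ω d' = 1 := by simp [d', ν, hωa]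
    have hd'0 : d' ≠ 0 := fun e => by simp [e] at hωd
    have hd' : Pt G d' := ⟨hd'0, fun e => hθ'ab (by
      have h0 := mem_axes.2 hθ'
      rw [e, Submodule.mem_bot] at h0
      simp [h0])⟩
    have hd'c : ¬ Perp G d' c := fun h' => one_ne_zero
      (hωd.symm.trans (perp_symm hG hd' hc h' ω hω))
    obtain ⟨μ, h1, h2⟩ := exists_scalar hG.three (a := θ' (a + b)) (b := θ' c) (c := 0) (d := 1)
      (Or.inl hθ'ab) (Or.inr one_ne_zero)
    rw [zero_add, mul_one] at h2
    have hd10 : b + μ • c ≠ 0 := fun e => by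
      have := congrArg φ e; simp [hφb, hφc, h2] at this
    have hd1 : Pt G (b + μ • c) := by
      have := hsmul μ (c + μ⁻¹ • b) (Or.inl (pt_line hψ (by rw [hψc]; exact one_ne_zero) hc μ⁻¹
        (fun e => hd10 (by simpa [smul_smul, h2, add_comm] using congrArg (μ • ·) e))))
      rw [smul_add, smul_smul, mul_inv_cancel₀ h2, one_smul, add_comm] at this
      exact this.resolve_right hd10
    have hx0 : b + μ • c + a ≠ 0 := fun e => by
      have := congrArg φ e; simp [hφb, hφc, hφ.1, h2] at this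
    have hx : Pt G (b + μ • c + a) := by
      have := pt_line (a := b + μ • c) (b := a) hφ (by simp [hφb, hφc, h2]) hd1 1 (by rwa [one_smul])
      rwa [one_smul] at this
    have hy : Pt G ((-μ) • c) :=
      (hsmul (-μ) c (Or.inl hc)).resolve_right (smul_ne_zero (neg_ne_zero.2 h2) hc.1)
    have he : b + μ • c + a + (-μ) • c = a + b := by
      rw [neg_smul]; abel
    have := sum (b + μ • c + a) ((-μ) • c) d' hx hy hd'
      (fun h' => h1 (by
        have h3 := h' θ' hθ'
        rw [show b + μ • c + a = (a + b) + μ • c by abel, map_add, map_smul, smul_eq_mul] at h3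
        exact h3))
      (fun h' => hd'c (by
        have := perp_smul_right (-μ)⁻¹ h'
        rwa [smul_smul, inv_mul_cancel₀ (neg_ne_zero.2 h2), one_smul] at this))
      (he.symm ▸ fun h' => hθ'ab (h' θ' hθ')) (he.symm ▸ hab)
    rwa [he] at this
  let X : Submodule (ZMod p) W :=
    { carrier := S
      add_mem' := fun {a b} => hadd a b
      zero_mem' := Or.inr rfl
      smul_mem' := hsmul }
  rcases hG.irr X (fun e θ he he0 hθ0 => Or.inl (Or.inl ⟨he0, fun e' => hθ0 (by
    simpa [e'] using mem_axes.2 he)⟩)) with hX | hX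
  · obtain ⟨e, θ, he, he0, hθ0⟩ := hG.exists_pair
    have : e ∈ X := Or.inl ⟨he0, fun e' => hθ0 (by simpa [e'] using mem_axes.2 he)⟩
    rw [hX, Submodule.mem_bot] at this
    exact absurd this he0
  · have : a ∈ X := hX ▸ Submodule.mem_top
    exact this.resolve_right h

end CfsgLib.McL
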