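import Cfsg.Agent.McLaughlin.Component
import Cfsg.Agent.Solvable.Basics

/-!
# McLaughlin's theorem over a prime field
-/

set_option autoImplicit false

namespace CfsgLib.McL

open Module

variable {p : ℕ} [Fact p.Prime] {V : Type*} [AddCommGroup V] [Module (ZMod p) V] [Finite V]

lemma finite_equiv : Finite (V ≃ₗ[ZMod p] V) :=
  Finite.of_injective (fun e => (e : V → V)) DFunLike.coe_injective

attribute [local instance] finite_equiv

/-- A transvection in the sense of order and fixed hyperplane. -/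
lemma exists_pair_of_transvection {t : V ≃ₗ[ZMod p] V} (ho : orderOf t = p)
    (hk : finrank (ZMod p) ↥(LinearMap.ker ((t : V →ₗ[ZMod p] V) - LinearMap.id)) + 1 =
      finrank (ZMod p) V) :
    ∃ (a : V) (φ : Dual (ZMod p) V) (h : φ a = 0), a ≠ 0 ∧ φ ≠ 0 ∧ t = LinearEquiv.transvection h := by
  set d : V →ₗ[ZMod p] V := (t : V →ₗ[ZMod p] V) - LinearMap.id with hd
  have hker : LinearMap.ker d ≠ ⊤ := fun e => by
    rw [e, finrank_top] at hk; omega
  obtain ⟨v, hv⟩ := not_forall.1 fun hh => hker (Submodule.eq_top_iff'.2 hh)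
  obtain ⟨φ, hφ, hφv⟩ := exists_dual_eq hv
  have htop : LinearMap.ker d ⊔ Submodule.span (ZMod p) {v} = ⊤ := by
    refine Submodule.eq_top_of_finrank_eq (le_antisymm (Submodule.finrank_le _) ?_)
    have : LinearMap.ker d < LinearMap.ker d ⊔ Submodule.span (ZMod p) {v} :=
      lt_of_le_not_ge le_sup_left fun h =>
        hv (h (Submodule.mem_sup_right (Submodule.mem_span_singleton_self v)))
    have h1 := Submodule.finrank_lt_finrank_of_lt this
    omega
  let a := d v
  have heq : ∀ x, t x = x + φ x • a := by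
    intro x
    obtain ⟨y, hy, z, hz, rfl⟩ := Submodule.mem_sup.1 (htop ▸ Submodule.mem_top :
      x ∈ LinearMap.ker d ⊔ Submodule.span (ZMod p) {v})
    obtain ⟨r, rfl⟩ := Submodule.mem_span_singleton.1 hz
    have h1 : t y = y := sub_eq_zero.1 (LinearMap.mem_ker.1 hy)
    have h2 : a = t v - v := rfl
    rw [map_add, h1, map_smul, map_add, hφ y hy, map_smul, hφv, zero_add, smul_eq_mul, mul_one, h2,
      smul_sub]
    abel
  have ha : a ≠ 0 := fun e => hv e
  have h0 : φ a = 0 := by
    have hta : t a = (1 + φ a) • a := by rw [heq a, add_smul, one_smul]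
    have hpow : ∀ n : ℕ, (t ^ n) a = (1 + φ a) ^ n • a := fun n => by
      induction n with
      | zero => simp
      | succ n ih => rw [pow_succ', LinearEquiv.mul_apply, ih, map_smul, hta, smul_smul, ← pow_succ]
    have := hpow p
    have e1 : t ^ p = 1 := by simpa [ho] using pow_orderOf_eq_one t
    rw [e1, ZMod.pow_card, LinearEquiv.coe_one, id] at this
    have h' : (1 : ZMod p) • a = (1 + φ a) • a := by rw [one_smul]; exact this
    have := smul_left_injective (ZMod p) ha h'
    simpa using this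
  exact ⟨a, φ, h0, ha, fun e => by simp [e] at hφv, LinearEquiv.ext fun x => by rw [tv_apply, heq]⟩

variable {H : Subgroup (V ≃ₗ[ZMod p] V)}

/-- The transvection pairs of `H`. -/
abbrev Pairs (H : Subgroup (V ≃ₗ[ZMod p] V)) :=
  {x : V × Dual (ZMod p) V // Has H x.1 x.2 ∧ x.1 ≠ 0 ∧ x.2 ≠ 0}

/-- Two pairs do not commute. -/
def Adj (x y : Pairs H) : Prop := x.1.2 y.1.1 ≠ 0 ∨ y.1.2 x.1.1 ≠ 0

/-- The components. -/
abbrev Classes (H : Subgroup (V ≃ₗ[ZMod p] V)) := Quot (Adj (H := H))

/-- The transvection of a pair. -/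
def tvOf (x : Pairs H) : V ≃ₗ[ZMod p] V := LinearEquiv.transvection x.2.1.1

lemma tvOf_mem (x : Pairs H) : tvOf x ∈ H := x.2.1.2

/-- The subgroup of a component. -/
def comp (q : Classes H) : Subgroup (V ≃ₗ[ZMod p] V) :=
  Subgroup.closure {g | ∃ x : Pairs H, Quot.mk _ x = q ∧ g = tvOf x}

lemma comp_le (q : Classes H) : comp q ≤ H :=
  (Subgroup.closure_le _).2 fun _ ⟨x, _, e⟩ => e ▸ tvOf_mem x

lemma cross {x y : Pairs H} (h : (Quot.mk _ x : Classes H) ≠ Quot.mk _ y) :
    x.1.2 y.1.1 = 0 ∧ y.1.2 x.1.1 = 0 := by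
  constructor <;> by_contra hne
  · exact h (Quot.sound (Or.inl hne))
  · exact h (Quot.sound (Or.inr hne))

lemma comm_of_cross {a b : V} {φ ψ : Dual (ZMod p) V} (ha : φ a = 0) (hb : ψ b = 0) (h1 : φ b = 0)
    (h2 : ψ a = 0) : Commute (LinearEquiv.transvection ha) (LinearEquiv.transvection hb) := by
  refine LinearEquiv.ext fun x => ?_
  simp only [LinearEquiv.mul_apply, tv_apply, map_add, map_smul, h1, h2, smul_zero, zero_smul, add_zero]
  abel

lemma commute_comp {q q' : Classes H} (h : q ≠ q') {g k : V ≃ₗ[ZMod p] V} (hg : g ∈ comp q)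
    (hk : k ∈ comp q') : Commute g k := by
  have h1 : comp q ≤ Subgroup.centralizer
      {g | ∃ x : Pairs H, Quot.mk _ x = q' ∧ g = tvOf x} := by
    refine (Subgroup.closure_le _).2 ?_
    rintro _ ⟨x, rfl, rfl⟩
    rintro _ ⟨y, rfl, rfl⟩
    exact (comm_of_cross y.2.1.1 x.2.1.1 (cross h).2 (cross h).1).eq
  have h2 : comp q' ≤ Subgroup.centralizer {g} := by
    refine (Subgroup.closure_le _).2 fun z hz => ?_
    rintro _ rfl
    exact ((Subgroup.mem_centralizer_iff.1 (h1 hg)) z hz).symm
  exact Subgroup.mem_centralizer_iff.1 (h2 hk) g rfl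

/-- Conjugation inside a component or across two. -/
lemma conj_class (x y : Pairs H) : ∃ z : Pairs H,
    (Quot.mk _ z : Classes H) = Quot.mk _ y ∧ tvOf x * tvOf y * (tvOf x)⁻¹ = tvOf z := by
  by_cases hadj : Adj x y
  swap
  · refine ⟨y, rfl, ?_⟩
    unfold Adj at hadj
    push Not at hadj
    rw [(comm_of_cross x.2.1.1 y.2.1.1 hadj.1 hadj.2).eq.trans rfl |> fun e =>
      (show tvOf x * tvOf y = tvOf y * tvOf x from e), mul_inv_cancel_right]
  obtain ⟨⟨a, φ⟩, hx, ha, hφ⟩ := x
  obtain ⟨⟨b, ψ⟩, hy, hb, hψ⟩ := y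
  have hg : LinearEquiv.transvection hx.1 ∈ H := hx.2
  refine ⟨⟨(b + φ b • a, ψ - ψ a • φ), hx.conj_tv hy, fun e => ?_, fun e => ?_⟩, ?_, ?_⟩
  · have e' : b + φ b • a = 0 := e
    have := congrArg φ e'
    rw [map_add, map_smul, hx.1, smul_zero, add_zero, map_zero] at this
    rw [this, zero_smul, add_zero] at e'
    exact hb e'
  · have e' : ψ - ψ a • φ = 0 := e
    have := LinearMap.congr_fun e' a
    rw [LinearMap.sub_apply, LinearMap.smul_apply, hx.1, smul_zero, sub_zero, LinearMap.zero_apply] at this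
    rw [this, zero_smul, sub_zero] at e'
    exact hψ e'
  · refine (Quot.sound ?_ : (Quot.mk _ ⟨(a, φ), hx, ha, hφ⟩ : Classes H) = _).symm.trans
      (Quot.sound hadj)
    rcases hadj with h | h
    · exact Or.inl (by simpa [hx.1] using h)
    · exact Or.inr (by simpa [hx.1] using h)
  · unfold tvOf
    refine (tv_conj _ hy.1).trans (LinearEquiv.ext fun z => ?_)
    change z + ψ ((LinearEquiv.transvection hx.1)⁻¹ z) • LinearEquiv.transvection hx.1 b =
      z + (ψ - ψ a • φ) z • (b + φ b • a)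
    rw [tv_inv_apply, tv_apply]
    simp [mul_comm]

lemma le_closure_pairs {T : Set (V ≃ₗ[ZMod p] V)} (hHT : H = Subgroup.closure T)
    (hT : ∀ t ∈ T, ∃ (a : V) (φ : Dual (ZMod p) V) (h : φ a = 0), a ≠ 0 ∧ φ ≠ 0 ∧
      t = LinearEquiv.transvection h) :
    H ≤ Subgroup.closure (Set.range (tvOf (H := H))) := by
  conv_lhs => rw [hHT]
  refine Subgroup.closure_mono fun t ht => ?_
  obtain ⟨a, φ, h, ha, hφ, rfl⟩ := hT t ht
  exact ⟨⟨(a, φ), ⟨h, hHT ▸ Subgroup.subset_closure ht⟩, ha, hφ⟩, rfl⟩

section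

variable (hgen : H ≤ Subgroup.closure (Set.range (tvOf (H := H)))) (hp : 3 ≤ p)
  (hcore : Cfsg.pCore p ↥H = ⊥)

include hgen in
lemma conj_comp {h : V ≃ₗ[ZMod p] V} (hh : h ∈ H) (q : Classes H) :
    ∀ g ∈ comp q, h * g * h⁻¹ ∈ comp q ∧ h⁻¹ * g * h ∈ comp q := by
  have hh' := hgen hh
  clear hh
  induction hh' using Subgroup.closure_induction with
  | mem y hy =>
    obtain ⟨x, rfl⟩ := hy
    have hle : comp q ≤ (comp q).comap (MulAut.conj (tvOf x)).toMonoidHom := by
      refine (Subgroup.closure_le _).2 ?_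
      rintro _ ⟨y, rfl, rfl⟩
      obtain ⟨z, hz, e⟩ := conj_class x y
      change tvOf x * tvOf y * (tvOf x)⁻¹ ∈ comp _
      rw [e]
      exact Subgroup.subset_closure ⟨z, hz, rfl⟩
    have hmap : (comp q).map (MulAut.conj (tvOf x)).toMonoidHom = comp q := by
      refine Subgroup.eq_of_le_of_card_ge (Subgroup.map_le_iff_le_comap.2 hle) (le_of_eq ?_)
      exact (Subgroup.card_map_of_injective (MulAut.conj (tvOf x)).injective).symm
    intro g hg
    refine ⟨hle hg, ?_⟩
    have hg' := hg
    rw [← hmap] at hg'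
    obtain ⟨k, hk, rfl⟩ := hg'
    change (tvOf x)⁻¹ * (tvOf x * k * (tvOf x)⁻¹) * tvOf x ∈ comp q
    rwa [show (tvOf x)⁻¹ * (tvOf x * k * (tvOf x)⁻¹) * tvOf x = k by group]
  | one => intro g hg; simpa using hg
  | mul a b _ _ iha ihb =>
    intro g hg
    refine ⟨?_, ?_⟩
    · rw [show a * b * g * (a * b)⁻¹ = a * (b * g * b⁻¹) * a⁻¹ by group]
      exact (iha _ (ihb g hg).1).1
    · rw [show (a * b)⁻¹ * g * (a * b) = b⁻¹ * (a⁻¹ * g * a) * b by group]
      exact (ihb _ (iha g hg).2).2
  | inv a _ iha =>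
    intro g hg
    rw [inv_inv]
    exact ⟨(iha g hg).2, (iha g hg).1⟩

include hgen in
lemma normal_comp (q : Classes H) : ((comp q).subgroupOf H).Normal :=
  ⟨fun g hg h => (conj_comp hgen h.2 q g.1 hg).1⟩

include hgen hcore in
lemma core_comp (q : Classes H) : Cfsg.pCore p ↥(comp q) = ⊥ := by
  set N := Cfsg.pCore p ↥(comp q) with hN
  let ι : ↥(comp q) →* ↥H := Subgroup.inclusion (comp_le q)
  have hι : Function.Injective ι := Subgroup.inclusion_injective _
  have hnorm : (N.map ι).Normal := by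
    refine ⟨?_⟩
    rintro _ ⟨g, hg, rfl⟩ h
    let σ : ↥(comp q) →* ↥(comp q) :=
      { toFun := fun x => ⟨(h : V ≃ₗ[ZMod p] V) * x * (h : V ≃ₗ[ZMod p] V)⁻¹,
          (conj_comp hgen h.2 q _ x.2).1⟩
        map_one' := Subtype.ext (by simp)
        map_mul' := fun x y => Subtype.ext (by simp [mul_assoc]) }
    have hsurj : Function.Surjective σ := fun x =>
      ⟨⟨(h : V ≃ₗ[ZMod p] V)⁻¹ * x * h, (conj_comp hgen h.2 q _ x.2).2⟩,
        Subtype.ext (by simp [σ, mul_assoc])⟩
    have hle : N.map σ ≤ N := CfsgLib.Solvable.le_pCore p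
      ((CfsgLib.Solvable.pCore_normal p).map σ hsurj) ((CfsgLib.Solvable.isPGroup_pCore p).map σ)
    exact ⟨σ g, hle (Subgroup.mem_map_of_mem σ hg), Subtype.ext rfl⟩
  have : N.map ι ≤ Cfsg.pCore p ↥H :=
    CfsgLib.Solvable.le_pCore p hnorm ((CfsgLib.Solvable.isPGroup_pCore p).map ι)
  rw [hcore, le_bot_iff, Subgroup.map_eq_bot_iff_of_injective _ hι] at this
  exact this

include hgen hp hcore in
/-- A transvection of a component belongs to that component. -/
lemma class_of_has (q : Classes H) {a : V} {φ : Dual (ZMod p) V} (h : Has (comp q) a φ) (ha : a ≠ 0)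
    (hφ : φ ≠ 0) :
    (Quot.mk _ ⟨(a, φ), ⟨h.1, comp_le q h.2⟩, ha, hφ⟩ : Classes H) = q := by
  by_contra hne
  set x : Pairs H := ⟨(a, φ), ⟨h.1, comp_le q h.2⟩, ha, hφ⟩
  have hcent : ∀ g ∈ comp q, Commute (tvOf x) g := fun g hg =>
    commute_comp hne (Subgroup.subset_closure ⟨x, rfl, rfl⟩) hg
  let z : ↥(comp q) := ⟨tvOf x, h.2⟩
  have hz : ∀ g : ↥(comp q), g * z = z * g := fun g => Subtype.ext ((hcent g g.2).eq.symm)
  have hpow : z ^ p = 1 := Subtype.ext (LinearEquiv.ext fun y => by
    rw [SubgroupClass.coe_pow, pow_apply_linear (fun u => by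
      change LinearEquiv.transvection h.1 (LinearEquiv.transvection h.1 u - u) = _
      rw [tv_apply h.1 u, add_sub_cancel_left, map_smul, tv_apply, h.1, zero_smul, add_zero]
      exact (add_sub_cancel_left u _).symm) p y, ZMod.natCast_self, zero_smul, add_zero]
    rfl)
  have hle : Subgroup.zpowers z ≤ Cfsg.pCore p ↥(comp q) := by
    refine CfsgLib.Solvable.le_pCore p ⟨fun g hg k => ?_⟩ (fun g => ?_)
    · obtain ⟨i, rfl⟩ := Subgroup.mem_zpowers_iff.1 hg
      rw [(Commute.zpow_right (hz k) i).eq, mul_inv_cancel_right]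
      exact Subgroup.zpow_mem_zpowers z i
    · obtain ⟨i, hi⟩ := Subgroup.mem_zpowers_iff.1 g.2
      refine ⟨1, Subtype.ext ?_⟩
      rw [pow_one, SubgroupClass.coe_pow, ← hi, ← zpow_natCast, zpow_comm, zpow_natCast, hpow, one_zpow]
      rfl
  rw [core_comp hgen hcore q] at hle
  have h1 : z = 1 := Subgroup.mem_bot.1 (hle (Subgroup.mem_zpowers z))
  exact ((tv_eq_one_iff h.1).1 (congrArg Subtype.val h1)).elim ha hφ

include hgen hp hcore in
lemma block_comp (q : Classes H) : Block (comp q) := by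
  have mem : ∀ x : Pairs H, (Quot.mk _ x : Classes H) = q → Has (comp q) x.1.1 x.1.2 :=
    fun x hx => ⟨x.2.1.1, Subgroup.subset_closure ⟨x, hx, rfl⟩⟩
  refine ⟨hp, ?_, ?_, ?_, core_comp hgen hcore q⟩
  · refine Subgroup.closure_mono ?_
    rintro _ ⟨x, hx, rfl⟩
    exact ⟨_, _, _, rfl, (mem x hx).2⟩
  · obtain ⟨x, rfl⟩ := Quot.exists_rep q
    exact ⟨_, _, mem x rfl, x.2.2.1, x.2.2.2⟩
  · rintro S ⟨a, φ, h, ha, hφ, hS⟩ hstep b ψ h' hb hψ
    set x : Pairs H := ⟨(a, φ), ⟨h.1, comp_le q h.2⟩, ha, hφ⟩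
    set y : Pairs H := ⟨(b, ψ), ⟨h'.1, comp_le q h'.2⟩, hb, hψ⟩
    have hxy : (Quot.mk _ x : Classes H) = Quot.mk _ y :=
      (class_of_has hgen hp hcore q h ha hφ).trans (class_of_has hgen hp hcore q h' hb hψ).symm
    have key : ∀ u v : Pairs H, Relation.EqvGen Adj u v →
        ((Quot.mk _ u : Classes H) = q → (S u.1.1 u.1.2 ↔ S v.1.1 v.1.2)) := by
      intro u v huv
      induction huv with
      | rel u v hadj =>
        intro hu
        have hv : (Quot.mk _ v : Classes H) = q := (Quot.sound hadj).symm.trans hu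
        exact ⟨fun hs => hstep _ _ _ _ (mem u hu) u.2.2.1 u.2.2.2 hs (mem v hv) v.2.2.1 v.2.2.2 hadj,
          fun hs => hstep _ _ _ _ (mem v hv) v.2.2.1 v.2.2.2 hs (mem u hu) u.2.2.1 u.2.2.2 hadj.symm⟩
      | refl u => exact fun _ => Iff.rfl
      | symm u v h ih =>
        intro hv
        exact (ih ((Quot.eqvGen_sound h).trans hv)).symm
      | trans u v w h1 _ ih1 ih2 =>
        intro hu
        exact (ih1 hu).trans (ih2 ((Quot.eqvGen_sound h1).symm.trans hu))
    exact (key x y (Quot.eqvGen_exact hxy) (class_of_has hgen hp hcore q h ha hφ)).1 hS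

include hgen in
/-- The space fixed by the whole group. -/
lemma map_centres {h : V ≃ₗ[ZMod p] V} (hh : h ∈ H) (q : Classes H) :
    (centres (comp q)).map (h : V →ₗ[ZMod p] V) = centres (comp q) := by
  refine Submodule.eq_of_le_of_finrank_le ?_ (LinearEquiv.finrank_map_eq h _).ge
  rw [centres, Submodule.map_span, Submodule.span_le]
  rintro _ ⟨a, ⟨φ, hφ, h0⟩, rfl⟩
  refine Submodule.subset_span ⟨φ ∘ₗ (h⁻¹ : V ≃ₗ[ZMod p] V).toLinearMap, ⟨?_, ?_⟩, fun e => h0 ?_⟩
  · change φ (h.symm (h a)) = 0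
    rw [h.symm_apply_apply, hφ.1]
  · rw [← tv_conj h hφ.1]; exact (conj_comp hgen hh q _ hφ.2).1
  · refine LinearMap.ext fun y => ?_
    have := LinearMap.congr_fun e (h y)
    change φ (h.symm (h y)) = 0 at this
    rwa [h.symm_apply_apply] at this

include hgen hp hcore in
lemma centres_le_axker {q q' : Classes H} (hne : q ≠ q') : centres (comp q) ≤ axker (comp q') := by
  refine Submodule.span_le.2 ?_
  rintro a ⟨φ, hφ, h0⟩ b ψ hψ hb
  rcases eq_or_ne a 0 with rfl | ha
  · exact map_zero ψ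
  rcases eq_or_ne ψ 0 with rfl | hψ0
  · rfl
  have h1 := class_of_has hgen hp hcore q hφ ha h0
  have h2 := class_of_has hgen hp hcore q' hψ hb hψ0
  exact (cross fun e => hne (h1.symm.trans (e.trans h2))).2

include hgen hp hcore in
/-- The direct sum decomposition, indexed by `none` and the components. -/
theorem isInternal_parts [DecidableEq (Option (Classes H))] :
    iSupIndep (fun i : Option (Classes H) => i.elim (⨅ q : Classes H, axker (comp q)) (fun q : Classes H => centres (comp q))) ∧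
      (⨆ i : Option (Classes H), i.elim (⨅ q : Classes H, axker (comp q)) (fun q : Classes H => centres (comp q))) = ⊤ := by
  classical
  haveI : Fintype (Classes H) := by
    haveI : Finite (Pairs H) := by
      haveI : Finite (Dual (ZMod p) V) := Module.finite_of_finite (ZMod p)
      infer_instance
    exact Fintype.ofFinite _
  have hU : ∀ q, centres (comp q) ⊓ axker (comp q) = ⊥ := fun q =>
    centres_inf_axker (block_comp hgen hp hcore q)
  constructor
  · rw [iSupIndep_def]
    intro i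
    rw [disjoint_iff, Submodule.eq_bot_iff]
    rintro x ⟨hx1, hx2⟩
    cases i with
    | none =>
      -- a vector killed by all axes lying in the sum of the components
      have key : (⨆ j, ⨆ (_ : j ≠ (none : Option (Classes H))),
          j.elim (⨅ q : Classes H, axker (comp q)) (fun q : Classes H => centres (comp q))) ≤ ⨆ q : Classes H, centres (comp q) := by
        refine iSup₂_le fun j hj => ?_
        cases j with
        | none => exact absurd rfl hj
        | some q => exact le_iSup (fun q => centres (comp q)) q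
      obtain ⟨f, hf⟩ := (Submodule.mem_iSup_iff_exists_finsupp _ x).1 (key hx2)
      obtain ⟨hfm, rfl⟩ := hf
      refine Finset.sum_eq_zero fun q _ => ?_
      have hq : f q ∈ centres (comp q) ⊓ axker (comp q) := by
        refine ⟨hfm q, ?_⟩
        have h1 : (f.sum fun _ v => v) ∈ axker (comp q) := (Submodule.mem_iInf _).1 hx1 q
        by_cases hq' : q ∈ f.support
        · rw [Finsupp.sum, ← Finset.add_sum_erase _ _ hq'] at h1
          refine (Submodule.add_mem_iff_left _ (Submodule.sum_mem _ fun r hr => ?_)).1 h1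
          exact centres_le_axker hgen hp hcore (Finset.ne_of_mem_erase hr) (hfm r)
        · rw [Finsupp.notMem_support_iff.1 hq']; exact Submodule.zero_mem _
      rwa [hU q, Submodule.mem_bot] at hq
    | some q =>
      have key : (⨆ j, ⨆ (_ : j ≠ some q),
          j.elim (⨅ q : Classes H, axker (comp q)) (fun q : Classes H => centres (comp q))) ≤ axker (comp q) := by
        refine iSup₂_le fun j hj => ?_
        cases j with
        | none => exact iInf_le (fun q => axker (comp q)) q
        | some r => exact centres_le_axker hgen hp hcore fun e => hj (by rw [e])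
      have : x ∈ centres (comp q) ⊓ axker (comp q) := ⟨hx1, key hx2⟩
      rwa [hU q, Submodule.mem_bot] at this
  · refine Submodule.eq_top_iff'.2 fun x => ?_
    have hc : ∀ q, ∃ u ∈ centres (comp q), x - u ∈ axker (comp q) := fun q => by
      have htop := (isCompl_centres_axker (block_comp hgen hp hcore q)).sup_eq_top
      obtain ⟨u, hu, w, hw, rfl⟩ := Submodule.mem_sup.1 (htop ▸ Submodule.mem_top :
        x ∈ centres (comp q) ⊔ axker (comp q))
      exact ⟨u, hu, by rwa [add_sub_cancel_left]⟩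
    choose u hu hxu using hc
    have h0 : x - ∑ q, u q ∈ ⨅ q : Classes H, axker (comp q) := by
      refine (Submodule.mem_iInf _).2 fun q => ?_
      rw [← Finset.add_sum_erase _ _ (Finset.mem_univ q), ← sub_sub]
      exact Submodule.sub_mem _ (hxu q) (Submodule.sum_mem _ fun r hr =>
        centres_le_axker hgen hp hcore (Finset.ne_of_mem_erase hr) (hu r))
    have := Submodule.add_mem _
      (le_iSup (fun i : Option (Classes H) =>
        i.elim (⨅ q : Classes H, axker (comp q)) (fun q : Classes H => centres (comp q))) none h0)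
      (Submodule.sum_mem _ fun q (_ : q ∈ Finset.univ) =>
        le_iSup (fun i : Option (Classes H) =>
          i.elim (⨅ q : Classes H, axker (comp q)) (fun q : Classes H => centres (comp q))) (some q) (hu q))
    rwa [sub_add_cancel] at this

end

end CfsgLib.McL
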