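import Mathlib

/-!
# Transvections in a group of linear automorphisms over a prime field
-/

set_option autoImplicit false

namespace CfsgLib.McL

open Module

variable {p : ℕ} [Fact p.Prime] {V : Type*} [AddCommGroup V] [Module (ZMod p) V]

/-- The transvection with centre `a` and axis `φ` belongs to `H`. -/
def Has (H : Subgroup (V ≃ₗ[ZMod p] V)) (a : V) (φ : Dual (ZMod p) V) : Prop :=
  ∃ h : φ a = 0, LinearEquiv.transvection h ∈ H

variable {H : Subgroup (V ≃ₗ[ZMod p] V)}

lemma tv_apply {φ : Dual (ZMod p) V} {a : V} (h : φ a = 0) (x : V) :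
    LinearEquiv.transvection h x = x + φ x • a := rfl

lemma tv_inv_apply {φ : Dual (ZMod p) V} {a : V} (h : φ a = 0) (x : V) :
    (LinearEquiv.transvection h)⁻¹ x = x - φ x • a := by
  apply (LinearEquiv.transvection h).injective
  rw [← LinearEquiv.mul_apply, mul_inv_cancel, LinearEquiv.coe_one, id, tv_apply]
  simp [h]

lemma tv_eq_one_iff {φ : Dual (ZMod p) V} {a : V} (h : φ a = 0) :
    LinearEquiv.transvection h = 1 ↔ a = 0 ∨ φ = 0 := by
  constructor
  · intro e
    by_contra hne
    push Not at hne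
    obtain ⟨x, hx⟩ : ∃ x, φ x ≠ 0 := by
      by_contra hc
      push Not at hc
      exact hne.2 (LinearMap.ext hc)
    have := LinearEquiv.congr_fun e x
    rw [tv_apply, LinearEquiv.coe_one, id, add_eq_left, smul_eq_zero] at this
    exact this.elim hx hne.1
  · intro hc
    refine LinearEquiv.ext fun x => ?_
    rw [tv_apply, LinearEquiv.coe_one, id]
    rcases hc with rfl | rfl <;> simp

lemma Has.dot {a : V} {φ : Dual (ZMod p) V} (h : Has H a φ) : φ a = 0 := h.1

lemma has_zero_left (H : Subgroup (V ≃ₗ[ZMod p] V)) (φ : Dual (ZMod p) V) : Has H 0 φ :=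
  ⟨map_zero φ, by rw [(tv_eq_one_iff _).2 (Or.inl rfl)]; exact H.one_mem⟩

lemma has_zero_right (H : Subgroup (V ≃ₗ[ZMod p] V)) (a : V) : Has H a 0 :=
  ⟨rfl, by rw [(tv_eq_one_iff _).2 (Or.inr rfl)]; exact H.one_mem⟩

lemma Has.add_right {a : V} {φ ψ : Dual (ZMod p) V} (h : Has H a φ) (h' : Has H a ψ) : Has H a (φ + ψ) := by
  refine ⟨by simp [h.1, h'.1], ?_⟩
  have e : LinearEquiv.transvection (show (φ + ψ) a = 0 by simp [h.1, h'.1])
      = LinearEquiv.transvection h.1 * LinearEquiv.transvection h'.1 := by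
    refine LinearEquiv.ext fun x => ?_
    simp only [LinearEquiv.mul_apply, tv_apply, map_add, map_smul, h.1, LinearMap.add_apply,
      zero_smul, add_zero, add_smul, add_assoc]
  rw [e]; exact H.mul_mem h.2 h'.2

lemma Has.add_left {a b : V} {φ : Dual (ZMod p) V} (h : Has H a φ) (h' : Has H b φ) : Has H (a + b) φ := by
  refine ⟨by simp [h.1, h'.1], ?_⟩
  have e : LinearEquiv.transvection (show φ (a + b) = 0 by simp [h.1, h'.1])
      = LinearEquiv.transvection h.1 * LinearEquiv.transvection h'.1 := by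
    refine LinearEquiv.ext fun x => ?_
    simp only [LinearEquiv.mul_apply, tv_apply, map_add, map_smul, h'.1,
      zero_smul, smul_zero, add_zero, smul_add, add_assoc]
  rw [e]; exact H.mul_mem h.2 h'.2

lemma Has.smul_right {a : V} {φ : Dual (ZMod p) V} (h : Has H a φ) (c : ZMod p) : Has H a (c • φ) := by
  have key : ∀ n : ℕ, Has H a ((n : ZMod p) • φ) := by
    intro n
    induction n with
    | zero => simpa using has_zero_right H a
    | succ n ih => rw [Nat.cast_succ, add_smul, one_smul]; exact ih.add_right h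
  simpa [ZMod.natCast_zmod_val] using key c.val

lemma Has.smul_left {a : V} {φ : Dual (ZMod p) V} (h : Has H a φ) (c : ZMod p) : Has H (c • a) φ := by
  have key : ∀ n : ℕ, Has H ((n : ZMod p) • a) φ := by
    intro n
    induction n with
    | zero => simpa using has_zero_left H φ
    | succ n ih => rw [Nat.cast_succ, add_smul, one_smul]; exact ih.add_left h
  simpa [ZMod.natCast_zmod_val] using key c.val

lemma Has.neg_left {a : V} {φ : Dual (ZMod p) V} (h : Has H a φ) : Has H (-a) φ := by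
  simpa using h.smul_left (-1)

lemma Has.sub_left {a b : V} {φ : Dual (ZMod p) V} (h : Has H a φ) (h' : Has H b φ) : Has H (a - b) φ :=
  sub_eq_add_neg a b ▸ h.add_left h'.neg_left

lemma Has.congr {a a' : V} {φ φ' : Dual (ZMod p) V} (h : Has H a φ) (ea : a = a') (eφ : φ = φ') :
    Has H a' φ' := ea ▸ eφ ▸ h

lemma tv_conj (g : V ≃ₗ[ZMod p] V) {a : V} {φ : Dual (ZMod p) V} (h : φ a = 0) :
    g * LinearEquiv.transvection h * g⁻¹ =
      LinearEquiv.transvection (show (φ ∘ₗ (g⁻¹ : V ≃ₗ[ZMod p] V).toLinearMap) (g a) = 0 by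
        change φ (g.symm (g a)) = 0
        rw [g.symm_apply_apply, h]) := by
  refine LinearEquiv.ext fun x => ?_
  simp only [LinearEquiv.mul_apply, tv_apply, map_add, map_smul]
  rw [← LinearEquiv.mul_apply, mul_inv_cancel]
  rfl

lemma Has.conj {a : V} {φ : Dual (ZMod p) V} (h : Has H a φ) {g : V ≃ₗ[ZMod p] V} (hg : g ∈ H) :
    Has H (g a) (φ ∘ₗ (g⁻¹ : V ≃ₗ[ZMod p] V).toLinearMap) :=
  ⟨_, tv_conj g h.1 ▸ H.mul_mem (H.mul_mem hg h.2) (H.inv_mem hg)⟩

/-- Conjugation of one transvection by another one. -/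
lemma Has.conj_tv {a b : V} {φ ψ : Dual (ZMod p) V} (h : Has H a φ) (h' : Has H b ψ) :
    Has H (b + φ b • a) (ψ - ψ a • φ) := by
  refine (h'.conj h.2).congr (tv_apply h.1 b) (LinearMap.ext fun x => ?_)
  change ψ ((LinearEquiv.transvection h.1)⁻¹ x) = _
  rw [tv_inv_apply]
  simp [mul_comm]

/-- A commutator of two transvections with one incidence. -/
lemma Has.comm {a b : V} {φ ψ : Dual (ZMod p) V} (h : Has H a φ) (h' : Has H b ψ) (hb : φ b ≠ 0)
    (ha : ψ a = 0) : Has H a ψ := by
  have h1 : Has H (b + φ b • a) ψ := (h.conj_tv h').congr rfl (by simp [ha])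
  exact ((h1.sub_left h').smul_left (φ b)⁻¹).congr
    (by rw [add_sub_cancel_left, smul_smul, inv_mul_cancel₀ hb, one_smul]) rfl

lemma exists_ne_zero_of_dual {φ : Dual (ZMod p) V} (h : φ ≠ 0) : ∃ x, φ x ≠ 0 := by
  by_contra hc
  push Not at hc
  exact h (LinearMap.ext hc)

/-- Three proper subspaces do not cover a space over a field with at least three elements. -/
lemma exists_notMem_three (h3 : 3 ≤ p) {A B C : Submodule (ZMod p) V} (hA : A ≠ ⊤) (hB : B ≠ ⊤) (hC : C ≠ ⊤) :
    ∃ v, v ∉ A ∧ v ∉ B ∧ v ∉ C := by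
  classical
  obtain ⟨v, hvA, hvB⟩ : ∃ v, v ∉ A ∧ v ∉ B := by
    by_contra h
    push Not at h
    obtain ⟨a, ha⟩ := not_forall.1 (fun hh => hA (Submodule.eq_top_iff'.2 hh))
    obtain ⟨b, hb⟩ := not_forall.1 (fun hh => hB (Submodule.eq_top_iff'.2 hh))
    have haB := h a ha
    have hbA : b ∈ A := by_contra fun hbA => hb (h b hbA)
    have hab : a + b ∉ A := fun hc => ha (by simpa using A.sub_mem hc hbA)
    exact hb (by simpa using B.sub_mem (h _ hab) haB)
  by_cases hvC : v ∈ C
  · obtain ⟨w, hw⟩ := not_forall.1 (fun hh => hC (Submodule.eq_top_iff'.2 hh))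
    have hsub : ∀ (D : Submodule (ZMod p) V), v ∉ D → ∀ μ ν : ZMod p, w + μ • v ∈ D → w + ν • v ∈ D → μ = ν := by
      intro D hD μ ν h1 h2
      by_contra hne
      have : (μ - ν) • v ∈ D := by
        have := D.sub_mem h1 h2
        rwa [add_sub_add_left_eq_sub, ← sub_smul] at this
      exact hD (by simpa [smul_smul, inv_mul_cancel₀ (sub_ne_zero.2 hne)] using D.smul_mem (μ - ν)⁻¹ this)
    by_contra hc
    push Not at hc
    have hcase : ∀ μ : ZMod p, w + μ • v ∈ A ∨ w + μ • v ∈ B := by
      intro μ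
      by_contra h'
      push Not at h'
      have := hc _ h'.1 h'.2
      exact hw (by simpa using C.sub_mem this (C.smul_mem μ hvC))
    have hinj : Function.Injective (fun μ : ZMod p => decide (w + μ • v ∈ A)) := by
      intro μ ν e
      rcases hcase μ with h1 | h1 <;> rcases hcase ν with h2 | h2
      · exact hsub A hvA μ ν h1 h2
      · by_cases h2' : w + ν • v ∈ A
        · exact hsub A hvA μ ν h1 h2'
        · simp [h1, h2'] at e
      · by_cases h1' : w + μ • v ∈ A
        · exact hsub A hvA μ ν h1' h2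
        · simp [h1', h2] at e
      · exact hsub B hvB μ ν h1 h2
    have := Fintype.card_le_of_injective _ hinj
    rw [ZMod.card, Fintype.card_bool] at this
    omega
  · exact ⟨v, hvA, hvB, hvC⟩

/-- A value avoiding two affine zeros. -/
lemma exists_scalar (h3 : 3 ≤ p) {a b c d : ZMod p} (hab : a ≠ 0 ∨ b ≠ 0) (hcd : c ≠ 0 ∨ d ≠ 0) :
    ∃ μ : ZMod p, a + μ * b ≠ 0 ∧ c + μ * d ≠ 0 := by
  classical
  by_contra hc
  push Not at hc
  have huniq : ∀ {x y : ZMod p}, (x ≠ 0 ∨ y ≠ 0) → ∀ μ ν : ZMod p, x + μ * y = 0 → x + ν * y = 0 → μ = ν := by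
    intro x y hxy μ ν h1 h2
    rcases eq_or_ne y 0 with rfl | hy
    · simp at h1; simp [h1] at hxy
    · exact mul_right_cancel₀ hy (by linear_combination h1 - h2)
  have hinj : Function.Injective (fun μ : ZMod p => decide (a + μ * b = 0)) := by
    intro μ ν e
    by_cases h1 : a + μ * b = 0
    · have h2 : a + ν * b = 0 := by simpa [h1] using e
      exact huniq hab μ ν h1 h2
    · have h2 : a + ν * b ≠ 0 := by simpa [h1] using e
      exact huniq hcd μ ν (hc μ h1) (hc ν h2)
  have := Fintype.card_le_of_injective _ hinj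
  rw [ZMod.card, Fintype.card_bool] at this
  omega

end CfsgLib.McL
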